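import Groth.Agent.Lib.FibDouble8.Sub
import Groth.Agent.Lib.FibLocal8.Restrict
import Groth.Agent.Lib.FibLocal8.Criterion

/-!
# An augmented sub-family along a functor of index categories
-/

set_option autoImplicit false
set_option backward.isDefEq.respectTransparency false
set_option backward.isDefEq.respectTransparency.types false
set_option maxHeartbeats 1000000

universe u

open CategoryTheory CategoryTheory.Limits Opposite TopologicalSpace Pseudofunctor.CoGrothendieck FibDesc
open Groth.Agent.FibSplit8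

noncomputable section

namespace Groth.Agent.FibDouble8

variable {E : Type} [Category.{0} E] (Y : (WithInitial E)ᵒᵖ ⥤ TopCat.{u})
variable {D : Type} [Category.{0} D] (α : WithInitial D ⥤ WithInitial E)

/-- The augmented family along `α`. -/
abbrev Yα : (WithInitial D)ᵒᵖ ⥤ TopCat.{u} := α.op ⋙ Y

/-- The indices of the part. -/
abbrev β : Dᵒᵖ ⥤ (WithInitial E)ᵒᵖ := toAug D ⋙ α.op

/-- The open subset underlying an object of the part. -/
abbrev opnP (a : ∫ᶜ (part (topAug (Yα Y α)))) : Opens ((Yα Y α).obj ((toAug D).obj a.base)) := a.fiber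

/-- The functor of total categories. -/
def Tα : ∫ᶜ (topAug (Yα Y α)) ⥤ ∫ᶜ (topAug Y) where
  obj X := mkObj Y (α.op.obj X.base) (opn (Yα Y α) X)
  map {X Z} g := homMk Y (a := mkObj Y (α.op.obj X.base) (opn (Yα Y α) X))
    (b := mkObj Y (α.op.obj Z.base) (opn (Yα Y α) Z)) (α.op.map g.base) (hom_le (Yα Y α) g)
  map_id X := hom_ext Y (α.op.map_id _)
  map_comp f g := hom_ext Y (α.op.map_comp _ _)

instance Tα_continuous :
    (Tα Y α).IsContinuous (totAug (topAug (Yα Y α)) (topAugTop (Yα Y α))) (totAug (topAug Y) (topAugTop Y)) := by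
  refine (FC16.FibTotal.isContinuous_iff (isPreFibSite (Yα Y α)) _ _).2 fun i => ?_
  haveI : (ι (topAug Y) (α.op.obj i)).IsContinuous (topAugTop (Yα Y α) i) (totAug (topAug Y) (topAugTop Y)) :=
    FC16.FibTotal.ι_isContinuous (isPreFibSite Y) _
  exact Functor.isContinuous_of_iso (F₁ := ι (topAug Y) (α.op.obj i)) (F₂ := ι (topAug (Yα Y α)) i ⋙ Tα Y α)
    (NatIso.ofComponents (fun U => Iso.refl _) fun f => hom_ext Y (by
      change 𝟙 _ ≫ 𝟙 _ = 𝟙 _ ≫ α.op.map (𝟙 i)
      rw [α.op.map_id])) _ _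

/-- Restriction to the augmented family along `α`. -/
abbrev resα : TSh Y ⥤ TSh (Yα Y α) :=
  (Tα Y α).sheafPushforwardContinuous AddCommGrpCat.{u} (totAug (topAug (Yα Y α)) (topAugTop (Yα Y α)))
    (totAug (topAug Y) (topAugTop Y))

/-- Restriction to its part. -/
abbrev rpart : TSh Y ⥤ PSh (Yα Y α) := resα Y α ⋙ inclR (Yα Y α)

instance additive_resα : (resα Y α).Additive where

instance additive_inclR (Z : (WithInitial D)ᵒᵖ ⥤ TopCat.{u}) : (inclR Z).Additive where

/-- The fibres of a restriction. -/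
def resRs (M : TSh Y) (i : (WithInitial D)ᵒᵖ) :
    (rs (Yα Y α) i).obj ((resα Y α).obj M) ≅ (rs Y (α.op.obj i)).obj M :=
  (fullyFaithfulSheafToPresheaf _ _).preimageIso (NatIso.ofComponents (fun U => Iso.refl _) fun g => by
    change M.obj.map _ ≫ 𝟙 _ = 𝟙 _ ≫ M.obj.map _
    rw [Category.comp_id, Category.id_comp]
    exact congrArg M.obj.map (Quiver.Hom.unop_inj (hom_ext Y (α.op.map_id i))))

/-- The restriction of a cartesian sheaf is cartesian. -/
theorem cart_resα {M : TSh Y} (hM : Cart Y M) : Cart (Yα Y α) ((resα Y α).obj M) := by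
  intro i A
  let eA : ((rs (Yα Y α) i).obj ((resα Y α).obj M) ⟶ A) ≃ ((rs Y (α.op.obj i)).obj M ⟶ A) :=
    (resRs Y α M i).homFromEquiv
  let eB : ((rs Y (α.op.obj (bot D))).obj M ⟶ (pushF Y (α.op.map (botTerminal.from i))).obj A) ≃
      ((rs (Yα Y α) (bot D)).obj ((resα Y α).obj M) ⟶ (pushE (Yα Y α) i).obj A) :=
    (resRs Y α M (bot D)).symm.homFromEquiv
  refine (congrArg Function.Bijective (funext fun φ => ?_)).mp
    ((eB.bijective.comp (bijective_trans Y (α.op.map (botTerminal.from i)) hM A)).comp eA.bijective)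
  apply Sheaf.hom_ext
  ext U : 2
  change 𝟙 _ ≫ M.obj.map (cartArr Y (α.op.map (botTerminal.from i)) U.unop).op ≫ (𝟙 _ ≫ φ.hom.app _) =
    M.obj.map ((Tα Y α).map (toBot (Yα Y α) i U.unop)).op ≫ φ.hom.app _
  erw [Category.id_comp, Category.id_comp]
  all_goals exact congrArg (fun g => M.obj.map g ≫ φ.hom.app _) (congrArg Quiver.Hom.op (hom_ext Y rfl))

theorem isIso_counit_of_cart {Z : (WithInitial D)ᵒᵖ ⥤ TopCat.{u}} {M : TSh Z} (hM : Cart Z M) :
    IsIso ((adj₀ Z).counit.app M) := by
  let E' := ext₀ Z ((rs Z (bot D)).obj M)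
  haveI : IsIso ((rs Z (bot D)).map ((adj₀ Z).counit.app M)) :=
    IsIso.of_isIso_fac_left ((adj₀ Z).right_triangle_components M)
  obtain ⟨r, hr⟩ := (bijective_restr_bot Z hM E').2 (inv ((rs Z (bot D)).map ((adj₀ Z).counit.app M)))
  change (rs Z (bot D)).map r = _ at hr
  exact ⟨r, (bijective_restr_bot Z (cart_ext₀ Z _) E').1
    (show (rs Z (bot D)).map _ = (rs Z (bot D)).map _ by
      rw [Functor.map_comp, hr, IsIso.hom_inv_id]
      exact ((rs Z (bot D)).map_id _).symm),
    (bijective_restr_bot Z hM M).1 (show (rs Z (bot D)).map _ = (rs Z (bot D)).map _ by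
      rw [Functor.map_comp, hr, IsIso.inv_hom_id]
      exact ((rs Z (bot D)).map_id _).symm)⟩

/-- The base fibre. -/
abbrev rc : TSh Y ⥤ Sheaf (topAugTop (Yα Y α) (bot D)) AddCommGrpCat.{u} := resα Y α ⋙ rs (Yα Y α) (bot D)

/-- Inverse image of the base fibre to the part. -/
def xi : rc Y α ⋙ pull (topAug (Yα Y α)) (topAugTop (Yα Y α)) AddCommGrpCat.{u} ⟶ rpart Y α where
  app M := (inclR (Yα Y α)).map ((adj₀ (Yα Y α)).counit.app ((resα Y α).obj M))
  naturality M N φ := by
    change (inclR (Yα Y α)).map _ ≫ (inclR (Yα Y α)).map _ = (inclR (Yα Y α)).map _ ≫ (inclR (Yα Y α)).map _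
    rw [← Functor.map_comp, ← Functor.map_comp]
    exact congrArg (inclR (Yα Y α)).map ((adj₀ (Yα Y α)).counit.naturality ((resα Y α).map φ))

theorem isIso_xi {M : TSh Y} (hM : Cart Y M) : IsIso ((xi Y α).app M) := by
  haveI := isIso_counit_of_cart (cart_resα Y α hM)
  exact inferInstanceAs (IsIso ((inclR (Yα Y α)).map _))

/-- The comparison of the base fibre with the direct image of the part. -/
def rho' : rc Y α ⟶ rpart Y α ⋙ push (topAug (Yα Y α)) (topAugTop (Yα Y α)) AddCommGrpCat.{u} where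
  app M := (rs (Yα Y α) (bot D)).map ((FibLocal8.adjR (Yα Y α)).unit.app ((resα Y α).obj M))
  naturality M N φ := by
    change (rs (Yα Y α) (bot D)).map _ ≫ (rs (Yα Y α) (bot D)).map _ =
      (rs (Yα Y α) (bot D)).map _ ≫ (rs (Yα Y α) (bot D)).map _
    rw [← Functor.map_comp, ← Functor.map_comp]
    exact congrArg (rs (Yα Y α) (bot D)).map ((FibLocal8.adjR (Yα Y α)).unit.naturality ((resα Y α).map φ))

theorem homEquiv_xi {M N : TSh Y} (φ : M ⟶ N) :
    (FibDesc.adj (topAug (Yα Y α)) (topAugTop (Yα Y α)) AddCommGrpCat.{u}).homEquiv _ _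
        ((xi Y α).app M ≫ (rpart Y α).map φ) =
      (rc Y α).map φ ≫ (rho' Y α).app N := by
  simp only [FibDesc.adj, Adjunction.comp_homEquiv, Equiv.trans_apply]
  change (adj₀ (Yα Y α)).homEquiv _ _ ((FibLocal8.adjR (Yα Y α)).homEquiv _ _
      ((inclR (Yα Y α)).map ((adj₀ (Yα Y α)).counit.app ((resα Y α).obj M)) ≫
        (inclR (Yα Y α)).map ((resα Y α).map φ))) =
    (rs (Yα Y α) (bot D)).map ((resα Y α).map φ) ≫
      (rs (Yα Y α) (bot D)).map ((FibLocal8.adjR (Yα Y α)).unit.app ((resα Y α).obj N))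
  rw [← Functor.map_comp, Adjunction.homEquiv_unit (FibLocal8.adjR (Yα Y α)),
    show (FibLocal8.ccR (Yα Y α)).map ((inclR (Yα Y α)).map ((adj₀ (Yα Y α)).counit.app ((resα Y α).obj M) ≫
        (resα Y α).map φ)) = (inclR (Yα Y α) ⋙ FibLocal8.ccR (Yα Y α)).map _ from rfl,
    ← (FibLocal8.adjR (Yα Y α)).unit.naturality, Functor.id_map, Category.assoc,
    (adj₀ (Yα Y α)).homEquiv_unit, Functor.map_comp, ← Category.assoc,
    (adj₀ (Yα Y α)).right_triangle_components, Category.id_comp, Functor.map_comp]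

section Kan

variable (Q : ObjectProperty (WithInitial E)ᵒᵖ)

/-- The part reaches every index of `Q` over the base of `α`, in a universal way. -/
structure Reaches : Prop where
  mem : ∀ n : Dᵒᵖ, Q ((β α).obj n)
  fac : ∀ (d : (WithInitial E)ᵒᵖ), Q d → ∀ g : d ⟶ α.op.obj (bot D),
    ∃ (n : Dᵒᵖ) (h : d ⟶ (β α).obj n), h ≫ α.op.map (botTerminal.from _) = g ∧
      ∀ (n' : Dᵒᵖ) (h' : d ⟶ (β α).obj n'), h' ≫ α.op.map (botTerminal.from _) = g →
        ∃ k : n ⟶ n', h ≫ (β α).map k = h'

variable {α Q}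

/-- The functor between the categories computing the two values. -/
def Phi (R : Reaches α Q) (U : Opens ((Yα Y α).obj (bot D))) :
    StructuredArrow (op (mkObj (Yα Y α) (bot D) U)) (incl (topAug (Yα Y α))).op ⥤
      StructuredArrow (op (mkObj Y (α.op.obj (bot D)) U)) (K Y Q.ι).op where
  obj a := StructuredArrow.mk (Y := op (mkB Y Q.ι ⟨(β α).obj a.right.unop.base, R.mem _⟩ a.right.unop.fiber))
    (homMk Y (a := (K Y Q.ι).obj (mkB Y Q.ι ⟨(β α).obj a.right.unop.base, R.mem _⟩ a.right.unop.fiber))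
      (b := mkObj Y (α.op.obj (bot D)) U) (α.op.map a.hom.unop.base) (hom_le (Yα Y α) a.hom.unop)).op
  map {a b} m := StructuredArrow.homMk
    (homMkB Y Q.ι (a := mkB Y Q.ι ⟨(β α).obj b.right.unop.base, R.mem _⟩ b.right.unop.fiber)
      (b := mkB Y Q.ι ⟨(β α).obj a.right.unop.base, R.mem _⟩ a.right.unop.fiber)
      (ObjectProperty.homMk ((β α).map m.right.unop.base))
      (leOfHom (X := Opens (Y.obj ((β α).obj b.right.unop.base))) m.right.unop.fiber)).op
    (Quiver.Hom.unop_inj (hom_ext Y (by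
      change (β α).map m.right.unop.base ≫ α.op.map a.hom.unop.base = α.op.map b.hom.unop.base
      rw [Functor.comp_map, ← α.op.map_comp]
      exact congrArg α.op.map (botTerminal.hom_ext _ _))))
  map_id a := StructuredArrow.hom_ext _ _ (Quiver.Hom.unop_inj (hom_extB Y Q.ι
    (ObjectProperty.hom_ext _ ((β α).map_id _))))
  map_comp f g := StructuredArrow.hom_ext _ _ (Quiver.Hom.unop_inj (hom_extB Y Q.ι
    (ObjectProperty.hom_ext _ ((β α).map_comp _ _))))

theorem Phi_initial (R : Reaches α Q) (U : Opens ((Yα Y α).obj (bot D))) : (Phi Y R U).Initial := by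
  refine ⟨fun a => ?_⟩
  obtain ⟨n, h, hg, huniv⟩ := R.fac a.right.unop.base.obj a.right.unop.base.property a.hom.unop.base
  have hbase : ∀ W : StructuredArrow (op (mkObj (Yα Y α) (bot D) U)) (incl (topAug (Yα Y α))).op,
      α.op.map W.hom.unop.base = α.op.map (botTerminal.from _) :=
    fun W => congrArg α.op.map (botTerminal.hom_ext _ _)
  have ha := hom_le Y a.hom.unop
  let mk : ∀ (V : Opens ((Yα Y α).obj ((toAug D).obj n))),
      V ≤ (Opens.map ((Yα Y α).map (botTerminal.from _))).obj U →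
      StructuredArrow (op (mkObj (Yα Y α) (bot D) U)) (incl (topAug (Yα Y α))).op :=
    fun V hV => StructuredArrow.mk (Y := op (mkObjPart (Yα Y α) n V))
      (homMk (Yα Y α) (a := (incl (topAug (Yα Y α))).obj (mkObjPart (Yα Y α) n V))
        (b := mkObj (Yα Y α) (bot D) U) (botTerminal.from _) hV).op
  let toA : ∀ V hV, opnB Y Q.ι a.right.unop ≤ (Opens.map (Y.map h)).obj V →
      ((Phi Y R U).obj (mk V hV) ⟶ a) := fun V hV hle =>
    StructuredArrow.homMk (homMkB Y Q.ι (a := a.right.unop)
      (b := mkB Y Q.ι ⟨(β α).obj n, R.mem _⟩ V) (ObjectProperty.homMk h) hle).op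
      (Quiver.Hom.unop_inj (hom_ext Y hg))
  have hfrom : (Opens.map (Y.map h)).obj ((Opens.map ((Yα Y α).map (botTerminal.from _))).obj U) =
      (Opens.map (Y.map a.hom.unop.base)).obj U := by
    rw [← hg, Y.map_comp, Opens.map_comp_obj]
    rfl
  let c₀ : CostructuredArrow (Phi Y R U) a :=
    CostructuredArrow.mk (toA _ le_rfl (le_trans ha (le_of_eq hfrom.symm)))
  haveI : Nonempty (CostructuredArrow (Phi Y R U) a) := ⟨c₀⟩
  refine zigzag_isConnected fun c c' => ?_
  suffices hz : ∀ c : CostructuredArrow (Phi Y R U) a, Zigzag c c₀ from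
    (hz c).trans (hz c').symm
  intro c
  have hw : c.hom.right.unop.base.hom ≫ α.op.map c.left.hom.unop.base = a.hom.unop.base :=
    congrArg (fun g => g.unop.base) (StructuredArrow.w c.hom)
  rw [hbase] at hw
  obtain ⟨k, hk⟩ := huniv c.left.right.unop.base c.hom.right.unop.base.hom hw
  let V : Opens ((Yα Y α).obj ((toAug D).obj n)) :=
    (Opens.map ((Yα Y α).map ((toAug D).map k))).obj c.left.right.unop.fiber
  have hc := hom_le (Yα Y α) c.left.hom.unop
  have hV : V ≤ (Opens.map ((Yα Y α).map (botTerminal.from _))).obj U := fun x hx => by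
    have h1 := hc hx
    rw [botTerminal.hom_ext c.left.hom.unop.base (botTerminal.from _)] at h1
    have e := congrArg (fun g => g x) (((Yα Y α).map_comp ((toAug D).map k) (botTerminal.from _)).symm.trans
      (congrArg (Yα Y α).map (botTerminal.hom_ext _ (botTerminal.from _))))
    exact (congrArg (· ∈ U) e).mp h1
  have hA : opnB Y Q.ι a.right.unop ≤ (Opens.map (Y.map h)).obj V := fun x hx => by
    have h1 := hom_leB Y Q.ι c.hom.right.unop hx
    have e := congrArg (fun g => g x) ((Y.map_comp h ((β α).map k)).symm.trans (congrArg Y.map hk))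
    exact (congrArg (· ∈ opnP Y α c.left.right.unop) e).mpr h1
  let q : CostructuredArrow (Phi Y R U) a := CostructuredArrow.mk (toA V hV hA)
  have z1 : Zigzag c q := Zigzag.of_hom (CostructuredArrow.homMk
    (StructuredArrow.homMk (homMkPart (a := mkObjPart (Yα Y α) n V) (b := c.left.right.unop) k le_rfl).op
      (Quiver.Hom.unop_inj (hom_ext (Yα Y α) (botTerminal.hom_ext _ _))))
    (StructuredArrow.hom_ext _ _ (Quiver.Hom.unop_inj (hom_extB Y Q.ι (ObjectProperty.hom_ext _ hk)))))
  have z2 : Zigzag c₀ q := Zigzag.of_hom (CostructuredArrow.homMk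
    (StructuredArrow.homMk (homMkPart (a := mkObjPart (Yα Y α) n V)
      (b := c₀.left.right.unop) (𝟙 n) (le_trans hV (le_of_eq (by
        rw [show (toAug D).map (𝟙 n) = 𝟙 _ from (toAug D).map_id n]
        exact (map_id_obj _ _).symm)))).op
      (Quiver.Hom.unop_inj (hom_ext (Yα Y α) (botTerminal.hom_ext _ _))))
    (StructuredArrow.hom_ext _ _ (Quiver.Hom.unop_inj (hom_extB Y Q.ι (ObjectProperty.hom_ext _
      (show h ≫ (β α).map (𝟙 n) = h by rw [(β α).map_id, Category.comp_id]))))))
  exact z1.trans z2.symm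

theorem isIso_rho' (R : Reaches α Q) (N : TSh Y) [IsIso ((adjB Y Q.ι).unit.app N)] :
    IsIso ((rho' Y α).app N) := by
  refine @isIso_of_reflects_iso _ _ _ _ _ _ _ (sheafToPresheaf _ _) ?_ _
  refine @NatIso.isIso_of_isIso_app _ _ _ _ _ _ _ fun U => ?_
  let YY := Yα Y α
  let L := (K Y Q.ι).op
  let M := (res Y Q.ι).obj N
  change IsIso (((FibLocal8.adjR YY).unit.app ((resα Y α).obj N)).hom.app (op (mkObj YY (bot D) U.unop)))
  let x := op (mkObj Y (α.op.obj (bot D)) U.unop)
  let c := (Functor.RightExtension.mk _ (L.ranCounit.app M.obj)).coneAt x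
  have hc : IsLimit c := Functor.isPointwiseRightKanExtensionRanCounit L M.obj _
  haveI hu : IsIso (((adjB Y Q.ι).unit.app N).hom.app x) := by
    haveI : IsIso ((adjB Y Q.ι).unit.app N).hom :=
      inferInstanceAs (IsIso ((sheafToPresheaf _ _).map ((adjB Y Q.ι).unit.app N)))
    infer_instance
  let c₁ : Cone (StructuredArrow.proj x L ⋙ M.obj) :=
    { pt := N.obj.obj x
      π := { app := fun a => N.obj.map a.hom
             naturality := fun a b m => by
               change 𝟙 _ ≫ N.obj.map b.hom = N.obj.map a.hom ≫ N.obj.map (L.map m.right)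
               rw [Category.id_comp, ← N.obj.map_comp, StructuredArrow.w] } }
  have hc₁ : IsLimit c₁ := hc.ofIsoLimit (Cone.ext (asIso (((adjB Y Q.ι).unit.app N).hom.app x)).symm fun a => by
    change (c.π.app a) = inv (((adjB Y Q.ι).unit.app N).hom.app x) ≫ N.obj.map a.hom
    rw [IsIso.eq_inv_comp]
    change ((adjB Y Q.ι).unit.app N).hom.app x ≫ ((coe Y Q.ι).obj M).obj.map a.hom ≫
      (L.ranCounit.app M.obj).app a.right = N.obj.map a.hom
    refine ((Category.assoc _ _ _).symm.trans ((congrArg (· ≫ _)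
      (((adjB Y Q.ι).unit.app N).hom.naturality a.hom).symm).trans (Category.assoc _ _ _))).trans ?_
    rw [Functor.sheafAdjunctionCocontinuous_unit_app_hom]
    erw [Functor.ranCounit_app_app_ranAdjunction_unit_app_app]
    exact Category.comp_id _)
  haveI := Phi_initial Y R U.unop
  have hw : IsLimit (c₁.whisker (Phi Y R U.unop)) := (Functor.Initial.isLimitWhiskerEquiv _ _).symm hc₁
  let L' := (incl (topAug YY)).op
  let M' := (inclR YY).obj ((resα Y α).obj N)
  let c' := (Functor.RightExtension.mk _ (L'.ranCounit.app M'.obj)).coneAt (op (mkObj YY (bot D) U.unop))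
  have hc' : IsLimit c' := Functor.isPointwiseRightKanExtensionRanCounit L' M'.obj _
  have key : ((FibLocal8.adjR YY).unit.app ((resα Y α).obj N)).hom.app (op (mkObj YY (bot D) U.unop)) =
      (hw.conePointUniqueUpToIso hc').hom := by
    refine hc'.hom_ext fun a => ?_
    rw [IsLimit.conePointUniqueUpToIso_hom_comp]
    change _ ≫ ((FibLocal8.ccR YY).obj M').obj.map a.hom ≫ (L'.ranCounit.app M'.obj).app a.right =
      N.obj.map ((Phi Y R U.unop).obj a).hom
    refine ((Category.assoc _ _ _).symm.trans ((congrArg (· ≫ _)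
      (((FibLocal8.adjR YY).unit.app ((resα Y α).obj N)).hom.naturality a.hom).symm).trans (Category.assoc _ _ _))).trans ?_
    rw [Functor.sheafAdjunctionCocontinuous_unit_app_hom]
    erw [Functor.ranCounit_app_app_ranAdjunction_unit_app_app]
    refine (Category.comp_id _).trans ?_
    exact congrArg N.obj.map (Quiver.Hom.unop_inj (hom_ext Y rfl))
  rw [key]
  infer_instance

end Kan

section Good

/-- The left adjoint of restriction to the part is exact. -/
structure Good : Prop where
  span : ∀ (c : (WithInitial E)ᵒᵖ) (i j k : Dᵒᵖ) (f : j ⟶ i) (g : k ⟶ i) (a : c ⟶ (β α).obj j)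
    (b : c ⟶ (β α).obj k), a ≫ (β α).map f = b ≫ (β α).map g →
      ∃ (l : Dᵒᵖ) (p : l ⟶ j) (q : l ⟶ k) (e : c ⟶ (β α).obj l), e ≫ (β α).map p = a ∧ e ≫ (β α).map q = b
  eq : ∀ (c : (WithInitial E)ᵒᵖ) (i j : Dᵒᵖ) (f g : j ⟶ i) (a : c ⟶ (β α).obj j),
    a ≫ (β α).map f = a ≫ (β α).map g →
      ∃ (l : Dᵒᵖ) (p : l ⟶ j) (e : c ⟶ (β α).obj l), p ≫ f = p ≫ g ∧ e ≫ (β α).map p = a

/-- The functor of the part into the family. -/
abbrev Tpart : ∫ᶜ (part (topAug (Yα Y α))) ⥤ ∫ᶜ (topAug Y) := incl (topAug (Yα Y α)) ⋙ Tα Y α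

instance Tpart_continuous :
    (Tpart Y α).IsContinuous (totPart (topAug (Yα Y α)) (topAugTop (Yα Y α))) (totAug (topAug Y) (topAugTop Y)) :=
  Functor.isContinuous_comp _ _ _ (totAug (topAug (Yα Y α)) (topAugTop (Yα Y α))) _

theorem lan_preservesMono (G : Good α) :
    ((Tpart Y α).op.lan (H := AddCommGrpCat.{u})).PreservesMonomorphisms := by
  refine SiteCoh.preservesMonomorphisms_lan_of (Tpart Y α) (fun V => ?_) (fun V => ?_)
  · intro i j k p q
    have e : j.hom.unop.base ≫ (β α).map p.left.unop.base = k.hom.unop.base ≫ (β α).map q.left.unop.base :=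
      (congrArg (fun g => g.unop.base) (CostructuredArrow.w p)).trans
        (congrArg (fun g => g.unop.base) (CostructuredArrow.w q)).symm
    obtain ⟨l, P, P', a, hP, hP'⟩ := G.span _ _ _ _ _ _ _ _ e
    let W : Opens ((Yα Y α).obj ((toAug D).obj l)) :=
      (Opens.map ((Yα Y α).map ((toAug D).map P))).obj j.left.unop.fiber ⊓
        (Opens.map ((Yα Y α).map ((toAug D).map P'))).obj k.left.unop.fiber
    have hW : opn Y V.unop ≤ (Opens.map (Y.map a)).obj W := fun x hx => by
      refine ⟨?_, ?_⟩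
      · have h1 := hom_le Y j.hom.unop hx
        have e := congrArg (fun g => g x) ((Y.map_comp a ((β α).map P)).symm.trans (congrArg Y.map hP))
        exact (congrArg (· ∈ opnP Y α j.left.unop) e).mpr h1
      · have h1 := hom_le Y k.hom.unop hx
        have e := congrArg (fun g => g x) ((Y.map_comp a ((β α).map P')).symm.trans (congrArg Y.map hP'))
        exact (congrArg (· ∈ opnP Y α k.left.unop) e).mpr h1
    refine ⟨CostructuredArrow.mk (Y := op (mkObjPart (Yα Y α) l W))
      (homMk Y (a := V.unop) (b := (Tpart Y α).obj (mkObjPart (Yα Y α) l W)) a hW).op,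
      ⟨CostructuredArrow.homMk (homMkPart (a := mkObjPart (Yα Y α) l W) (b := j.left.unop) P inf_le_left).op
        (Quiver.Hom.unop_inj (hom_ext Y hP))⟩,
      ⟨CostructuredArrow.homMk (homMkPart (a := mkObjPart (Yα Y α) l W) (b := k.left.unop) P' inf_le_right).op
        (Quiver.Hom.unop_inj (hom_ext Y hP'))⟩⟩
  · intro i j p q
    have e : j.hom.unop.base ≫ (β α).map p.left.unop.base = j.hom.unop.base ≫ (β α).map q.left.unop.base :=
      (congrArg (fun g => g.unop.base) (CostructuredArrow.w p)).trans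
        (congrArg (fun g => g.unop.base) (CostructuredArrow.w q)).symm
    obtain ⟨l, P, a, hPe, hP⟩ := G.eq _ _ _ _ _ _ e
    let W : Opens ((Yα Y α).obj ((toAug D).obj l)) :=
      (Opens.map ((Yα Y α).map ((toAug D).map P))).obj j.left.unop.fiber
    have hW : opn Y V.unop ≤ (Opens.map (Y.map a)).obj W := fun x hx => by
      have h1 := hom_le Y j.hom.unop hx
      have e := congrArg (fun g => g x) ((Y.map_comp a ((β α).map P)).symm.trans (congrArg Y.map hP))
      exact (congrArg (· ∈ opnP Y α j.left.unop) e).mpr h1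
    refine ⟨CostructuredArrow.mk (Y := op (mkObjPart (Yα Y α) l W))
      (homMk Y (a := V.unop) (b := (Tpart Y α).obj (mkObjPart (Yα Y α) l W)) a hW).op,
      CostructuredArrow.homMk (homMkPart (a := mkObjPart (Yα Y α) l W) (b := j.left.unop) P le_rfl).op
        (Quiver.Hom.unop_inj (hom_ext Y hP)), ?_⟩
    ext
    exact Quiver.Hom.unop_inj (hom_ext_part hPe)

/-- Restriction to the part preserves K-injectivity. -/
theorem isKInjective_rpart (G : Good α) (J : CochainComplex (TSh Y) ℤ) [J.IsKInjective] :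
    CochainComplex.IsKInjective (((rpart Y α).mapHomologicalComplex (ComplexShape.up ℤ)).obj J) := by
  let tP := totPart (topAug (Yα Y α)) (topAugTop (Yα Y α))
  let tA := totAug (topAug Y) (topAugTop Y)
  haveI hm := lan_preservesMono Y α G
  let F := Functor.sheafPullbackConstruction.sheafPullback (Tpart Y α) AddCommGrpCat.{u} tP tA
  let adF : F ⊣ (Tpart Y α).sheafPushforwardContinuous AddCommGrpCat.{u} tP tA :=
    Functor.sheafPullbackConstruction.sheafAdjunctionContinuous (Tpart Y α) AddCommGrpCat.{u} _ _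
  let ad : F ⊣ rpart Y α := adF.ofNatIsoRight
    (Functor.sheafPushforwardContinuousComp' (Iso.refl (Tpart Y α)) AddCommGrpCat.{u} tP
      (totAug (topAug (Yα Y α)) (topAugTop (Yα Y α))) tA).symm
  haveI := ad.leftAdjoint_preservesColimits
  haveI := preservesBinaryBiproducts_of_preservesBinaryCoproducts F
  haveI : F.Additive := Functor.additive_of_preservesBinaryBiproducts F
  haveI : F.PreservesMonomorphisms := by
    haveI : (sheafToPresheaf tP AddCommGrpCat.{u}).PreservesMonomorphisms := inferInstance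
    haveI : (presheafToSheaf tA AddCommGrpCat.{u}).PreservesMonomorphisms := inferInstance
    exact Functor.preservesMonomorphisms_comp _ _
  haveI : PreservesFiniteLimits F := by
    refine (F.preservesFiniteLimits_iff_forall_exact_map_and_mono).2 fun S hS => ?_
    haveI := hS.mono_f
    exact ⟨((F.preservesFiniteColimits_iff_forall_exact_map_and_epi).1 inferInstance S hS).1, inferInstance⟩
  exact Groth.Agent.KInjLib.isKInjective_of_adj (rpart Y α) F ad J

end Good

end Groth.Agent.FibDouble8
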