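import Groth.Agent.Lib.FibDouble8.Index
import Groth.Agent.Lib.FibLocal8.Cech

/-!
# The double Čech family of two maps
-/

set_option autoImplicit false
set_option backward.isDefEq.respectTransparency false
set_option backward.isDefEq.respectTransparency.types false
set_option maxHeartbeats 1000000

universe u

open CategoryTheory CategoryTheory.Limits Opposite TopologicalSpace FibDesc
open Groth.Agent.FibSplit8

noncomputable section

namespace Groth.Agent.FibDouble8

/-- Cohomological descent only depends on the family up to isomorphism. -/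
theorem isCohDescentTop_of_iso {D : Type} [Category.{0} D] {Y' Y : (WithInitial D)ᵒᵖ ⥤ TopCat.{u}} (j : Y' ⟶ Y)
    [∀ i, IsIso (j.app i)] (h : IsCohDescentTop Y') : IsCohDescentTop Y :=
  FibLocal8.isCohDescentTop_of_cover (fun _ : PUnit.{u + 1} => Y')
    (fun _ => { j := j
                emb := fun i => (TopCat.homeoOfIso (asIso (j.app i))).isOpenEmbedding
                cart := fun i x _ => (TopCat.homeoOfIso (asIso (j.app i))).surjective x })
    (fun x => ⟨PUnit.unit, (TopCat.homeoOfIso (asIso (j.app (bot D)))).surjective x⟩) fun _ => h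

variable {X Z S : TopCat.{u}} (u : X ⟶ S) (v : Z ⟶ S)

/-- The augmentation of a Čech nerve. -/
abbrev eA (x : (WithInitial SimplexCategory)ᵒᵖ) : (cechAug u).obj x ⟶ S := epsMap (cechAug u) x

theorem eA_comp {x x' : (WithInitial SimplexCategory)ᵒᵖ} (f : x ⟶ x') :
    (cechAug u).map f ≫ eA u x' = eA u x :=
  map_epsMap (cechAug u) f

theorem eA_bot : eA u (bot SimplexCategory) = 𝟙 _ := epsMap_bot (cechAug u)

/-- The products of the members of two Čech nerves. -/
def dblRight : WithInitial SimplexCategory × WithInitial SimplexCategory ⥤ TopCat.{u}ᵒᵖ where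
  obj e := op (pullback (eA u (op e.1)) (eA v (op e.2)))
  map {e e'} f := (pullback.map (eA u (op e'.1)) (eA v (op e'.2)) (eA u (op e.1)) (eA v (op e.2))
    ((cechAug u).map f.1.op) ((cechAug v).map f.2.op) (𝟙 S)
    ((Category.comp_id _).trans (eA_comp u _).symm) ((Category.comp_id _).trans (eA_comp v _).symm)).op
  map_id e := Quiver.Hom.unop_inj (by
    apply pullback.hom_ext
    · exact (pullback.lift_fst _ _ _).trans ((congrArg (_ ≫ ·) ((cechAug u).map_id _)).trans
        ((Category.comp_id _).trans (Category.id_comp _).symm))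
    · exact (pullback.lift_snd _ _ _).trans ((congrArg (_ ≫ ·) ((cechAug v).map_id _)).trans
        ((Category.comp_id _).trans (Category.id_comp _).symm)))
  map_comp f g := Quiver.Hom.unop_inj (by
    change _ = pullback.lift _ _ _ ≫ pullback.lift _ _ _
    apply pullback.hom_ext
    · rw [Category.assoc, pullback.lift_fst, pullback.lift_fst_assoc, Category.assoc]
      exact (pullback.lift_fst _ _ _).trans (congrArg (_ ≫ ·) ((cechAug u).map_comp g.1.op f.1.op))
    · rw [Category.assoc, pullback.lift_snd, pullback.lift_snd_assoc, Category.assoc]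
      exact (pullback.lift_snd _ _ _).trans (congrArg (_ ≫ ·) ((cechAug v).map_comp g.2.op f.2.op)))

/-- The double Čech family. -/
def dbl : (WithInitial (E2 SimplexCategory SimplexCategory))ᵒᵖ ⥤ TopCat.{u} :=
  (WithInitial.lift (dblRight u v) (Z := op S)
    (fun e => (pullback.fst (eA u (op e.1)) (eA v (op e.2)) ≫ eA u (op e.1)).op)
    (fun e e' f => Quiver.Hom.unop_inj (by
      refine (pullback.lift_fst_assoc _ _ _ _).trans ?_
      rw [Category.assoc, eA_comp]
      rfl))).leftOp

/-- The first axis is the first Čech nerve. -/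
def jU : Yα (dbl u v) αu ⟶ cechAug u where
  app
    | ⟨.star⟩ => 𝟙 S
    | ⟨.of m⟩ => pullback.fst (eA u (op (WithInitial.of m))) (eA v (bot SimplexCategory))
  naturality := by
    rintro ⟨x | _⟩ ⟨y | _⟩ ⟨f⟩
    · exact pullback.lift_fst _ _ _
    · change (pullback.fst (eA u (op (WithInitial.of x))) (eA v (bot SimplexCategory)) ≫ eA u _) ≫ 𝟙 S =
        pullback.fst _ _ ≫ (cechAug u).map (Quiver.Hom.op f)
      rw [Category.comp_id, eA, epsMap]
      exact congrArg (fun t => _ ≫ (cechAug u).map t) (botTerminal.hom_ext _ _)
    · exact (f : PEmpty).elim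
    · change 𝟙 S ≫ 𝟙 S = 𝟙 S ≫ (cechAug u).map (Quiver.Hom.op f)
      rw [botTerminal.hom_ext (Quiver.Hom.op f) (𝟙 (bot SimplexCategory)), CategoryTheory.Functor.map_id]
      rfl

instance isIso_jU (i : (WithInitial SimplexCategory)ᵒᵖ) : IsIso ((jU u v).app i) := by
  obtain ⟨m | _⟩ := i
  · haveI : IsIso (eA v (bot SimplexCategory)) := by rw [eA_bot]; infer_instance
    exact inferInstanceAs (IsIso (pullback.fst (eA u (op (WithInitial.of m))) (eA v (bot SimplexCategory))))
  · exact inferInstanceAs (IsIso (𝟙 S))

/-- The second axis is the second Čech nerve. -/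
def jV : cechAug v ⟶ Yα (dbl u v) αv where
  app
    | ⟨.star⟩ => 𝟙 S
    | ⟨.of m⟩ => pullback.lift (eA v (op (WithInitial.of m))) (𝟙 _) ((congrArg (eA v (op (WithInitial.of m)) ≫ ·) (eA_bot u)).trans
        ((Category.comp_id _).trans (Category.id_comp _).symm))
  naturality := by
    rintro ⟨x | _⟩ ⟨y | _⟩ ⟨f⟩
    · change (cechAug v).map (Quiver.Hom.op f) ≫ pullback.lift (eA v (op (WithInitial.of y))) (𝟙 _) _ =
        pullback.lift (eA v (op (WithInitial.of x))) (𝟙 _) _ ≫ pullback.lift _ _ _
      apply pullback.hom_ext
      · rw [Category.assoc, pullback.lift_fst, Category.assoc, pullback.lift_fst, pullback.lift_fst_assoc, eA_comp]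
        exact ((congrArg (eA v _ ≫ ·) ((cechAug u).map_id _)).trans (Category.comp_id _)).symm
      · rw [Category.assoc, pullback.lift_snd, Category.comp_id, Category.assoc, pullback.lift_snd,
          pullback.lift_snd_assoc, Category.id_comp]
        rfl
    · change (cechAug v).map (Quiver.Hom.op f) ≫ 𝟙 S = pullback.lift _ _ _ ≫ pullback.fst _ _ ≫ eA u _
      refine Eq.trans ?_ ((pullback.lift_fst_assoc _ _ _ _).trans (congrArg (_ ≫ ·) (eA_bot u))).symm
      exact congrArg (· ≫ 𝟙 S) (congrArg (cechAug v).map (botTerminal.hom_ext _ _))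
    · exact (f : PEmpty).elim
    · change (cechAug v).map (Quiver.Hom.op f) ≫ 𝟙 S = 𝟙 S ≫ 𝟙 S
      rw [botTerminal.hom_ext (Quiver.Hom.op f) (𝟙 (bot SimplexCategory)), CategoryTheory.Functor.map_id]
      rfl

instance isIso_jV (i : (WithInitial SimplexCategory)ᵒᵖ) : IsIso ((jV u v).app i) := by
  obtain ⟨m | _⟩ := i
  · haveI : IsIso (eA u (bot SimplexCategory)) := by rw [eA_bot]; infer_instance
    have e : (jV u v).app (op (WithInitial.of m)) ≫
        pullback.snd (eA u (bot SimplexCategory)) (eA v (op (WithInitial.of m))) = 𝟙 _ := pullback.lift_snd _ _ _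
    haveI : IsIso ((jV u v).app (op (WithInitial.of m)) ≫
        pullback.snd (eA u (bot SimplexCategory)) (eA v (op (WithInitial.of m)))) := by rw [e]; exact IsIso.id _
    exact IsIso.of_isIso_comp_right _ (pullback.snd (eA u (bot SimplexCategory)) (eA v (op (WithInitial.of m))))
  · exact inferInstanceAs (IsIso (𝟙 S))

section BaseChange

variable {T : TopCat.{u}} (w : X ⟶ S) (a : T ⟶ S)

/-- The morphism of arrows of a base change. -/
def bcArrow : Arrow.mk (pullback.snd w a) ⟶ Arrow.mk w :=
  Arrow.homMk (pullback.fst w a) a pullback.condition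

/-- The morphism of Čech nerves of a base change. -/
def cechBC : cechAug (pullback.snd w a) ⟶ cechAug w :=
  AugmentedSimplexCategory.equivAugmentedSimplicialObject.inverse.map (Arrow.mapAugmentedCechNerve (bcArrow w a))

theorem cechBC_π (n : SimplexCategory) (i : Fin (n.len + 1)) :
    (cechBC w a).app (op (WithInitial.of n)) ≫ wπ w n i = wπ (pullback.snd w a) n i ≫ pullback.fst w a :=
  WidePullback.lift_π _ _ _ _ _

theorem cechBC_base (n : SimplexCategory) :
    (cechBC w a).app (op (WithInitial.of n)) ≫ wb w n = wb (pullback.snd w a) n ≫ a :=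
  WidePullback.lift_base _ _ _ _

theorem isPullback_cechBC (i : (WithInitial SimplexCategory)ᵒᵖ) :
    IsPullback ((cechBC w a).app i) (eA (pullback.snd w a) i) (eA w i) a := by
  obtain ⟨n | _⟩ := i
  · change IsPullback ((cechBC w a).app (op (WithInitial.of n))) (wb (pullback.snd w a) n) (wb w n) a
    refine ⟨⟨cechBC_base w a n⟩, ⟨PullbackCone.IsLimit.mk _ (fun c => WidePullback.lift c.snd
      (fun i => pullback.lift (c.fst ≫ wπ w n i) c.snd ?_) (fun i => pullback.lift_snd _ _ _)) (fun c => ?_)
      (fun c => WidePullback.lift_base _ _ _ _) (fun c m h₁ h₂ => ?_)⟩⟩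
    · rw [Category.assoc, WidePullback.π_arrow, c.condition]
    · apply w_ext
      · intro i
        rw [Category.assoc]
        refine (congrArg (_ ≫ ·) (cechBC_π w a n i)).trans ?_
        rw [← Category.assoc]
        exact (congrArg (· ≫ pullback.fst w a) (WidePullback.lift_π _ _ _ _ i)).trans (pullback.lift_fst _ _ _)
      · rw [Category.assoc]
        refine (congrArg (_ ≫ ·) (cechBC_base w a n)).trans ?_
        rw [← Category.assoc]
        exact (congrArg (· ≫ a) (WidePullback.lift_base _ _ _ _)).trans c.condition.symm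
    · apply w_ext
      · intro i
        rw [WidePullback.lift_π]
        apply pullback.hom_ext
        · rw [pullback.lift_fst, Category.assoc]
          exact (congrArg (m ≫ ·) (cechBC_π w a n i).symm).trans ((Category.assoc _ _ _).symm.trans
            (congrArg (· ≫ wπ w n i) h₁))
        · rw [pullback.lift_snd, Category.assoc]
          exact (congrArg (m ≫ ·) (WidePullback.π_arrow _ i)).trans h₂
      · exact h₂.trans (WidePullback.lift_base _ _ _ _).symm
  · change IsPullback a (eA (pullback.snd w a) (bot SimplexCategory)) (eA w (bot SimplexCategory)) a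
    rw [eA_bot, eA_bot]
    exact @IsPullback.of_vert_isIso _ _ _ _ _ _ _ _ _ _ (IsIso.id _) (IsIso.id _) ⟨(Category.comp_id _).trans (Category.id_comp _).symm⟩

end BaseChange

/-- A row of the double family is a base change of the second map. -/
def jR (x : SimplexCategory) :
    cechAug (pullback.snd v (eA u (op (WithInitial.of x)))) ⟶ Yα (dbl u v) (αr x) where
  app i := pullback.lift (eA _ i) ((cechBC v (eA u (op (WithInitial.of x)))).app i)
    (isPullback_cechBC v _ i).w.symm
  naturality i k f := by
    change _ ≫ pullback.lift _ _ _ = pullback.lift _ _ _ ≫ pullback.lift _ _ _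
    apply pullback.hom_ext
    · rw [Category.assoc, pullback.lift_fst, Category.assoc, pullback.lift_fst, pullback.lift_fst_assoc, eA_comp]
      exact ((congrArg (eA _ _ ≫ ·) ((cechAug u).map_id _)).trans (Category.comp_id _)).symm
    · rw [Category.assoc, pullback.lift_snd, Category.assoc, pullback.lift_snd, pullback.lift_snd_assoc]
      exact (cechBC v (eA u (op (WithInitial.of x)))).naturality f

instance isIso_jR (x : SimplexCategory) (i : (WithInitial SimplexCategory)ᵒᵖ) : IsIso ((jR u v x).app i) := by
  have h := (isPullback_cechBC v (eA u (op (WithInitial.of x))) i).flip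
  haveI : IsIso h.isoPullback.hom := inferInstance
  have e : (jR u v x).app i = h.isoPullback.hom := by
    apply pullback.hom_ext
    · exact (pullback.lift_fst _ _ _).trans h.isoPullback_hom_fst.symm
    · exact (pullback.lift_snd _ _ _).trans h.isoPullback_hom_snd.symm
  rw [e]; infer_instance

/-- A column of the double family is a base change of the first map. -/
def jC (y : SimplexCategory) :
    cechAug (pullback.snd u (eA v (op (WithInitial.of y)))) ⟶ Yα (dbl u v) (αc y) where
  app i := pullback.lift ((cechBC u (eA v (op (WithInitial.of y)))).app i) (eA _ i)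
    (isPullback_cechBC u _ i).w
  naturality i k f := by
    change _ ≫ pullback.lift _ _ _ = pullback.lift _ _ _ ≫ pullback.lift _ _ _
    apply pullback.hom_ext
    · rw [Category.assoc, pullback.lift_fst, Category.assoc, pullback.lift_fst, pullback.lift_fst_assoc]
      exact (cechBC u (eA v (op (WithInitial.of y)))).naturality f
    · rw [Category.assoc, pullback.lift_snd, Category.assoc, pullback.lift_snd, pullback.lift_snd_assoc, eA_comp]
      exact ((congrArg (eA _ _ ≫ ·) ((cechAug v).map_id _)).trans (Category.comp_id _)).symm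

instance isIso_jC (y : SimplexCategory) (i : (WithInitial SimplexCategory)ᵒᵖ) : IsIso ((jC u v y).app i) := by
  have h := isPullback_cechBC u (eA v (op (WithInitial.of y))) i
  have e : (jC u v y).app i = h.isoPullback.hom := by
    apply pullback.hom_ext
    · exact (pullback.lift_fst _ _ _).trans h.isoPullback_hom_fst.symm
    · exact (pullback.lift_snd _ _ _).trans h.isoPullback_hom_snd.symm
  rw [e]; infer_instance

/-- Descent for a map from descent for its base changes to a Čech nerve. -/
theorem isCohDescentMap_of_baseChange_cech (hv : IsUnivCohDescentMap v)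
    (h : ∀ n : SimplexCategory, IsCohDescentMap (pullback.snd u (eA v (op (WithInitial.of n))))) :
    IsCohDescentMap u := by
  have hv0 : IsCohDescentMap v := by
    let g := pullback.snd v (𝟙 S)
    haveI : ∀ i, IsIso ((cechBC v (𝟙 S)).app i) := fun i => (isPullback_cechBC v (𝟙 S) i).isIso_fst_of_isIso
    exact isCohDescentTop_of_iso (cechBC v (𝟙 S)) (hv S (𝟙 S))
  exact isCohDescentTop_of_iso (jU u v) (isCohDescentTop_axis (dbl u v)
    (fun x => isCohDescentTop_of_iso (jR u v x) (hv _ _))
    (fun y => isCohDescentTop_of_iso (jC u v y) (h y))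
    (isCohDescentTop_of_iso (jV u v) hv0))

end Groth.Agent.FibDouble8
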