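import Groth.Agent.Lib.FibDouble8.Axis
import Groth.Agent.Lib.FibLocal8.Push
import Groth.Agent.Lib.KInj.Resolution
import Mathlib.CategoryTheory.Abelian.GrothendieckAxioms.Sheaf
import Mathlib.Algebra.Category.Grp.AB

/-!
# Descent along one axis from descent along the other
-/

set_option autoImplicit false
set_option backward.isDefEq.respectTransparency false
set_option backward.isDefEq.respectTransparency.types false
set_option maxHeartbeats 1000000

universe u

open CategoryTheory CategoryTheory.Limits Opposite TopologicalSpace Pseudofunctor.CoGrothendieck FibDesc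
open Groth.Agent.FibSplit8

noncomputable section

namespace Groth.Agent.FibDouble8

variable {E : Type} [Category.{0} E] (Y : (WithInitial E)ᵒᵖ ⥤ TopCat.{u})

local notation "cS" => ComplexShape.up ℤ

theorem quasiIso_map_iff {A B : Type*} [Category* A] [Abelian A] [Category* B] [Abelian B] (F : A ⥤ B)
    [F.Additive] [PreservesFiniteLimits F] [PreservesFiniteColimits F] {K L : CochainComplex A ℤ} (φ : K ⟶ L) :
    _root_.QuasiIso ((F.mapHomologicalComplex cS).map φ) ↔ ∀ k, IsIso (F.map (HomologicalComplex.homologyMap φ k)) := by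
  have key : ∀ k, QuasiIsoAt ((F.mapHomologicalComplex cS).map φ) k ↔
      IsIso (F.map (HomologicalComplex.homologyMap φ k)) := fun k => by
    rw [quasiIsoAt_iff_isIso_homologyMap]
    let ψ := (HomologicalComplex.shortComplexFunctor _ cS k).map φ
    have hnat := ShortComplex.mapHomologyIso_hom_naturality ψ F
    constructor
    · intro h
      haveI : IsIso (ShortComplex.homologyMap (F.mapShortComplex.map ψ)) := h
      exact IsIso.of_isIso_fac_left hnat.symm
    · intro h
      haveI : IsIso (F.map (ShortComplex.homologyMap ψ)) := h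
      exact IsIso.of_isIso_fac_right hnat
  exact ⟨fun h k => (key k).1 (h.quasiIsoAt k), fun h => ⟨fun k => (key k).2 (h k)⟩⟩

/-- A map is invertible over one index. -/
def IsoAt (i : (WithInitial E)ᵒᵖ) {M N : TSh Y} (φ : M ⟶ N) : Prop := IsIso ((rs Y i).map φ)

variable {Y}

theorem IsoAt.app {i : (WithInitial E)ᵒᵖ} {M N : TSh Y} {φ : M ⟶ N} (h : IsoAt Y i φ) (U : Opens (Y.obj i)) :
    IsIso (φ.hom.app (op (mkObj Y i U))) := by
  haveI : IsIso ((rs Y i).map φ) := h
  exact inferInstanceAs (IsIso (((rs Y i).map φ).hom.app (op U)))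

theorem isoAt_of_app {i : (WithInitial E)ᵒᵖ} {M N : TSh Y} {φ : M ⟶ N}
    (h : ∀ U : Opens (Y.obj i), IsIso (φ.hom.app (op (mkObj Y i U)))) : IsoAt Y i φ := by
  refine @isIso_of_reflects_iso _ _ _ _ _ _ _ (sheafToPresheaf _ _) ?_ _
  exact @NatIso.isIso_of_isIso_app _ _ _ _ _ _ _ fun U => h U.unop

section

variable {D : Type} [Category.{0} D] (α : WithInitial D ⥤ WithInitial E)

instance Tα_cocontinuous :
    (Tα Y α).IsCocontinuous (totAug (topAug (Yα Y α)) (topAugTop (Yα Y α))) (totAug (topAug Y) (topAugTop Y)) where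
  cover_lift {X S} hS := by
    have h := (FC16.FibTotal.mem_total (isPreFibSite Y) S).1 hS
    rw [FC16.FibTotal.mem_total (isPreFibSite (Yα Y α))]
    refine GrothendieckTopology.superset_covering _ ?_ h
    intro V g hg
    change S.arrows ((Tα Y α).map ((ι (topAug (Yα Y α)) X.base).map g))
    have : (Tα Y α).map ((ι (topAug (Yα Y α)) X.base).map g) = (ι (topAug Y) (α.op.obj X.base)).map g :=
      hom_ext Y (α.op.map_id X.base)
    rw [this]
    exact hg

instance exact_resα : PreservesFiniteLimits (resα Y α) :=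
  haveI := ((Tα Y α).sheafAdjunctionContinuous AddCommGrpCat.{u}
    (totAug (topAug (Yα Y α)) (topAugTop (Yα Y α))) (totAug (topAug Y) (topAugTop Y))).rightAdjoint_preservesLimits.{0, 0}
  inferInstance

instance exact_resα' : PreservesFiniteColimits (resα Y α) :=
  haveI := ((Tα Y α).sheafAdjunctionCocontinuous AddCommGrpCat.{u}
    (totAug (topAug (Yα Y α)) (topAugTop (Yα Y α))) (totAug (topAug Y) (topAugTop Y))).leftAdjoint_preservesColimits.{0, 0}
  inferInstance

variable (Z : (WithInitial D)ᵒᵖ ⥤ TopCat.{u})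

instance exact_inclR : PreservesFiniteColimits (inclR Z) :=
  haveI := (FibLocal8.adjR Z).leftAdjoint_preservesColimits.{0, 0}
  inferInstance

instance exact_inclR' : PreservesFiniteLimits (inclR Z) :=
  haveI := ((incl (topAug Z)).sheafAdjunctionContinuous AddCommGrpCat.{u} (totPart (topAug Z) (topAugTop Z))
    (totAug (topAug Z) (topAugTop Z))).rightAdjoint_preservesLimits.{0, 0}
  inferInstance

instance exact_rs (i : (WithInitial D)ᵒᵖ) : PreservesFiniteColimits (rs Z i) :=
  haveI := ((ι (topAug Z) i).sheafAdjunctionCocontinuous AddCommGrpCat.{u} (topAugTop Z i)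
    (totAug (topAug Z) (topAugTop Z))).leftAdjoint_preservesColimits.{0, 0}
  inferInstance

instance exact_rs' (i : (WithInitial D)ᵒᵖ) : PreservesFiniteLimits (rs Z i) :=
  haveI := ((ι (topAug Z) i).sheafAdjunctionContinuous AddCommGrpCat.{u} (topAugTop Z i)
    (totAug (topAug Z) (topAugTop Z))).rightAdjoint_preservesLimits.{0, 0}
  inferInstance

instance additive_rs (i : (WithInitial D)ᵒᵖ) : (rs Z i).Additive where

theorem isIso_rpart_map {M N : TSh Y} (φ : M ⟶ N) (h : ∀ n : Dᵒᵖ, IsoAt Y ((β α).obj n) φ) :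
    IsIso ((rpart Y α).map φ) := by
  refine @isIso_of_reflects_iso _ _ _ _ _ _ _ (sheafToPresheaf _ _) ?_ _
  exact @NatIso.isIso_of_isIso_app _ _ _ _ _ _ _ fun X => (h X.unop.base).app X.unop.fiber

theorem isIso_rc_map_iff {M N : TSh Y} (φ : M ⟶ N) :
    IsIso ((rc Y α).map φ) ↔ IsoAt Y (α.op.obj (bot D)) φ := by
  constructor
  · intro h
    refine isoAt_of_app fun U => ?_
    exact inferInstanceAs (IsIso (((rc Y α).map φ).hom.app (op U)))
  · intro h
    refine @isIso_of_reflects_iso _ _ _ _ _ _ _ (sheafToPresheaf _ _) ?_ _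
    exact @NatIso.isIso_of_isIso_app _ _ _ _ _ _ _ fun U => h.app U.unop

end

variable {W : ObjectProperty (WithInitial E)ᵒᵖ}

theorem isoAt_of_res {M N : TSh Y} {φ : M ⟶ N} (h : IsIso ((res Y W.ι).map φ)) {w : (WithInitial E)ᵒᵖ} (hw : W w) :
    IsoAt Y w φ := by
  refine isoAt_of_app fun U => ?_
  exact inferInstanceAs (IsIso (((res Y W.ι).map φ).hom.app (op (mkB Y W.ι ⟨w, hw⟩ U))))

variable (M : CochainComplex (TSh Y) ℤ) (J : CochainComplex (BSh Y W.ι) ℤ)
  (q : ((res Y W.ι).mapHomologicalComplex cS).obj M ⟶ J)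

/-- The adjunct of a resolution over `W`. -/
abbrev eta : M ⟶ ((coe Y W.ι).mapHomologicalComplex cS).obj J :=
  FibLocal8.adjunct (adjB Y W.ι) q

theorem isoAt_eta [_root_.QuasiIso q] {w : (WithInitial E)ᵒᵖ} (hw : W w) (k : ℤ) :
    IsoAt Y w (HomologicalComplex.homologyMap (eta M J q) k) := by
  refine isoAt_of_res ?_ hw
  revert k
  rw [← quasiIso_map_iff]
  haveI : W.ι.Full := inferInstance
  haveI := K_full Y W.ι
  haveI := K_faithful Y W.ι
  let ad := KInjLib.adjComplexes (adjB Y W.ι) cS
  have h : ((res Y W.ι).mapHomologicalComplex cS).map (eta M J q) ≫ ad.counit.app J = q :=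
    (ad.homEquiv_counit _ _ _).symm.trans (Equiv.symm_apply_apply _ _)
  haveI : IsIso (ad.counit.app J) :=
    haveI : ∀ i, IsIso ((ad.counit.app J).f i) := fun i => isIso_counit_adjB Y W.ι (J.X i)
    HomologicalComplex.Hom.isIso_of_components _
  haveI : _root_.QuasiIso (((res Y W.ι).mapHomologicalComplex cS).map (eta M J q) ≫ ad.counit.app J) := by
    rw [h]; infer_instance
  exact quasiIso_of_comp_right _ (ad.counit.app J)

variable {D : Type} [Category.{0} D] (α : WithInitial D ⥤ WithInitial E)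
  [(pull (topAug (Yα Y α)) (topAugTop (Yα Y α)) AddCommGrpCat.{u}).Additive]

/-- Inverse image of the base fibre, on complexes. -/
def xiC : ((pull (topAug (Yα Y α)) (topAugTop (Yα Y α)) AddCommGrpCat.{u}).mapHomologicalComplex cS).obj
      (((rc Y α).mapHomologicalComplex cS).obj M) ⟶ ((rpart Y α).mapHomologicalComplex cS).obj M where
  f n := (xi Y α).app (M.X n)
  comm' i j _ := ((xi Y α).naturality (M.d i j)).symm

/-- The map of the inverse image of the base fibre to the restriction of the coextension. -/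
abbrev qα : ((pull (topAug (Yα Y α)) (topAugTop (Yα Y α)) AddCommGrpCat.{u}).mapHomologicalComplex cS).obj
      (((rc Y α).mapHomologicalComplex cS).obj M) ⟶
      ((rpart Y α).mapHomologicalComplex cS).obj (((coe Y W.ι).mapHomologicalComplex cS).obj J) :=
  xiC M α ≫ ((rpart Y α).mapHomologicalComplex cS).map (eta M J q)

theorem quasiIso_qα [_root_.QuasiIso q] (hM : ∀ n, Cart Y (M.X n))
    (hp : ∀ (n : Dᵒᵖ) (k : ℤ), IsoAt Y ((β α).obj n) (HomologicalComplex.homologyMap (eta M J q) k)) :
    _root_.QuasiIso (qα M J q α) := by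
  haveI : IsIso (xiC M α) :=
    haveI : ∀ n, IsIso ((xiC M α).f n) := fun n => isIso_xi Y α (hM n)
    HomologicalComplex.Hom.isIso_of_components _
  haveI : _root_.QuasiIso (((rpart Y α).mapHomologicalComplex cS).map (eta M J q)) :=
    (quasiIso_map_iff _ _).2 fun k => isIso_rpart_map α _ fun n => hp n k
  exact quasiIso_comp _ _

variable [(push (topAug (Yα Y α)) (topAugTop (Yα Y α)) AddCommGrpCat.{u}).Additive]

/-- The comparison with the direct image, on complexes. -/
def rhoC (N : CochainComplex (TSh Y) ℤ) : ((rc Y α).mapHomologicalComplex cS).obj N ⟶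
    ((push (topAug (Yα Y α)) (topAugTop (Yα Y α)) AddCommGrpCat.{u}).mapHomologicalComplex cS).obj
      (((rpart Y α).mapHomologicalComplex cS).obj N) where
  f n := (rho' Y α).app (N.X n)
  comm' i j _ := ((rho' Y α).naturality (N.d i j)).symm

theorem adjunct_qα : FibLocal8.adjunct (FibDesc.adj (topAug (Yα Y α)) (topAugTop (Yα Y α)) AddCommGrpCat.{u})
      (qα M J q α) = ((rc Y α).mapHomologicalComplex cS).map (eta M J q) ≫ rhoC α _ := by
  ext i : 1
  rw [FibLocal8.adjunct, Adjunction.homEquiv_unit]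
  exact ((FibDesc.adj (topAug (Yα Y α)) (topAugTop (Yα Y α)) AddCommGrpCat.{u}).homEquiv_unit _ _
    ((xi Y α).app (M.X i) ≫ (rpart Y α).map ((eta M J q).f i))).symm.trans (homEquiv_xi Y α ((eta M J q).f i))

theorem quasiIso_rhoC {Q : ObjectProperty (WithInitial E)ᵒᵖ} (R : Reaches α Q) (hQ : W ≤ Q) :
    IsIso (rhoC α (((coe Y W.ι).mapHomologicalComplex cS).obj J)) := by
  haveI : ∀ n, IsIso ((rhoC α (((coe Y W.ι).mapHomologicalComplex cS).obj J)).f n) := fun n => by
    haveI : IsIso ((adjB Y Q.ι).unit.app ((coe Y W.ι).obj (J.X n))) :=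
      isIso_unit_coe Y Q.ι (ObjectProperty.ιOfLE hQ) (J.X n)
    exact isIso_rho' Y R ((coe Y W.ι).obj (J.X n))
  exact HomologicalComplex.Hom.isIso_of_components _

theorem isKInjective_part [J.IsKInjective] (G : Good α) :
    CochainComplex.IsKInjective
      (((rpart Y α).mapHomologicalComplex cS).obj (((coe Y W.ι).mapHomologicalComplex cS).obj J)) := by
  haveI : CochainComplex.IsKInjective (((coe Y W.ι).mapHomologicalComplex cS).obj J) :=
    KInjLib.isKInjective_of_adj (coe Y W.ι) (res Y W.ι) (adjB Y W.ι) J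
  exact isKInjective_rpart Y α G _

/-- The step along one axis. -/
theorem isoAt_base [_root_.QuasiIso q] [J.IsKInjective] (hM : ∀ n, Cart Y (M.X n)) (a : ℤ) [M.IsStrictlyGE a]
    (hd : IsCohDescentTop (Yα Y α)) {Q : ObjectProperty (WithInitial E)ᵒᵖ} (R : Reaches α Q) (hQ : W ≤ Q)
    (G : Good α)
    (hp : ∀ (n : Dᵒᵖ) (k : ℤ), IsoAt Y ((β α).obj n) (HomologicalComplex.homologyMap (eta M J q) k)) (k : ℤ) :
    IsoAt Y (α.op.obj (bot D)) (HomologicalComplex.homologyMap (eta M J q) k) := by
  letI := HasDerivedCategory.standard (BaseSh (topAug (Yα Y α)) (topAugTop (Yα Y α)) AddCommGrpCat.{u})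
  letI := HasDerivedCategory.standard (DSh (topAug (Yα Y α)) (topAugTop (Yα Y α)) AddCommGrpCat.{u})
  haveI := quasiIso_qα M J q α hM hp
  haveI := isKInjective_part J α G
  haveI : CochainComplex.IsStrictlyGE (((rc Y α).mapHomologicalComplex cS).obj M) a :=
    CochainComplex.isStrictlyGE_iff _ _ |>.2 fun i hi =>
      (show IsZero ((rc Y α).obj (M.X i)) from (rc Y α).map_isZero (M.isZero_of_isStrictlyGE a i hi))
  obtain ⟨_, _, _, _, _, _, h⟩ := hd
  have hη : _root_.QuasiIso (FibLocal8.adjunct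
      (FibDesc.adj (topAug (Yα Y α)) (topAugTop (Yα Y α)) AddCommGrpCat.{u}) (qα M J q α)) :=
    FibLocal8.quasiIso_adjunct_of_bijective _ _ ⟨a, inferInstance⟩ h
  haveI := quasiIso_rhoC J α R hQ
  rw [adjunct_qα] at hη
  haveI := hη
  rw [← isIso_rc_map_iff]
  exact (quasiIso_map_iff _ _).1 (quasiIso_of_comp_right
    (((rc Y α).mapHomologicalComplex cS).map (eta M J q))
    (rhoC α (((coe Y W.ι).mapHomologicalComplex cS).obj J))) k

theorem quasiIso_adjunct_qα [_root_.QuasiIso q]
    {Q : ObjectProperty (WithInitial E)ᵒᵖ} (R : Reaches α Q) (hQ : W ≤ Q)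
    (hb : ∀ k, IsoAt Y (α.op.obj (bot D)) (HomologicalComplex.homologyMap (eta M J q) k)) :
    _root_.QuasiIso (FibLocal8.adjunct (FibDesc.adj (topAug (Yα Y α)) (topAugTop (Yα Y α)) AddCommGrpCat.{u})
      (qα M J q α)) := by
  haveI : _root_.QuasiIso (((rc Y α).mapHomologicalComplex cS).map (eta M J q)) :=
    (quasiIso_map_iff _ _).2 fun k => (isIso_rc_map_iff α _).2 (hb k)
  haveI := quasiIso_rhoC J α R hQ
  rw [adjunct_qα]
  exact quasiIso_comp _ _

end Groth.Agent.FibDouble8
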