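import Groth.Agent.Lib.FibDouble8.Core

/-!
# A doubly indexed augmented family
-/

set_option autoImplicit false
set_option backward.isDefEq.respectTransparency false
set_option backward.isDefEq.respectTransparency.types false
set_option maxHeartbeats 1000000

universe u

open CategoryTheory CategoryTheory.Limits Opposite TopologicalSpace FibDesc
open Groth.Agent.FibSplit8

noncomputable section

namespace Groth.Agent.FibDouble8

variable (D₁ D₂ : Type) [Category.{0} D₁] [Category.{0} D₂]

/-- The double index. -/
abbrev E2 : Type := WithInitial D₁ × WithInitial D₂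

variable {D₁ D₂}

/-- The first axis. -/
def αu : WithInitial D₁ ⥤ WithInitial (E2 D₁ D₂) :=
  WithInitial.map ((WithInitial.incl (C := D₁)).prod' ((Functor.const D₁).obj WithInitial.star))

/-- The second axis. -/
def αv : WithInitial D₂ ⥤ WithInitial (E2 D₁ D₂) :=
  WithInitial.map (((Functor.const D₂).obj WithInitial.star).prod' (WithInitial.incl (C := D₂)))

/-- The row over an index of the first axis. -/
def αr (x : D₁) : WithInitial D₂ ⥤ WithInitial (E2 D₁ D₂) :=
  ((Functor.const _).obj (WithInitial.of x)).prod' (𝟭 _) ⋙ WithInitial.incl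

/-- The column over an index of the second axis. -/
def αc (y : D₂) : WithInitial D₁ ⥤ WithInitial (E2 D₁ D₂) :=
  (𝟭 _).prod' ((Functor.const _).obj (WithInitial.of y)) ⋙ WithInitial.incl

/-- Both indices are on the part. -/
def inW : WithInitial (E2 D₁ D₂) → Prop
  | .of (.of _, .of _) => True
  | _ => False

/-- The first index is on the part. -/
def inU : WithInitial (E2 D₁ D₂) → Prop
  | .of (.of _, _) => True
  | _ => False

/-- The second index is on the part. -/
def inV : WithInitial (E2 D₁ D₂) → Prop
  | .of (_, .of _) => True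
  | _ => False

/-- The indices of the double part. -/
def QW : ObjectProperty (WithInitial (E2 D₁ D₂))ᵒᵖ := fun c => inW c.unop

/-- The indices over the part of the first axis. -/
def QU : ObjectProperty (WithInitial (E2 D₁ D₂))ᵒᵖ := fun c => inU c.unop

/-- The indices over the part of the second axis. -/
def QV : ObjectProperty (WithInitial (E2 D₁ D₂))ᵒᵖ := fun c => inV c.unop

theorem W_le_U : (QW : ObjectProperty (WithInitial (E2 D₁ D₂))ᵒᵖ) ≤ QU := by
  rintro ⟨⟨_ | _, _ | _⟩ | _⟩ h <;> first | trivial | exact h.elim

theorem W_le_V : (QW : ObjectProperty (WithInitial (E2 D₁ D₂))ᵒᵖ) ≤ QV := by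
  rintro ⟨⟨_ | _, _ | _⟩ | _⟩ h <;> first | trivial | exact h.elim

theorem hom_star {D : Type} [Category.{0} D] {y : WithInitial D} (f g : WithInitial.star ⟶ y) : f = g :=
  WithInitial.starInitial.hom_ext f g

theorem down_incl {D : Type} [Category.{0} D] {x y : D} (f : WithInitial.of x ⟶ WithInitial.of y) :
    WithInitial.incl.map (WithInitial.down f) = f := rfl

theorem reaches_u : Reaches (αu (D₁ := D₁) (D₂ := D₂)) QU where
  mem n := trivial
  fac := by
    rintro ⟨⟨x, y⟩ | _⟩ hd g
    rotate_left
    · exact hd.elim
    cases x with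
    | star => exact hd.elim
    | of m =>
      refine ⟨op m, Quiver.Hom.op (WithInitial.incl.map ((⟨𝟙 _, WithInitial.starInitial.to y⟩ :
        (WithInitial.of m, WithInitial.star) ⟶ (WithInitial.of m, y)))), botTerminal.hom_ext _ _, ?_⟩
      intro n' h' _
      let φ : (WithInitial.of n'.unop, WithInitial.star) ⟶ (WithInitial.of m, y) := WithInitial.down h'.unop
      refine ⟨(WithInitial.down φ.1).op, Quiver.Hom.unop_inj ?_⟩
      change ((WithInitial.incl.map (WithInitial.down φ.1), 𝟙 _) ≫
        ((𝟙 _, WithInitial.starInitial.to y) : (WithInitial.of m, WithInitial.star) ⟶ (WithInitial.of m, y))) = φ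
      exact Prod.ext (Category.comp_id _) (hom_star _ _)

theorem reaches_v : Reaches (αv (D₁ := D₁) (D₂ := D₂)) QV where
  mem n := trivial
  fac := by
    rintro ⟨⟨x, y⟩ | _⟩ hd g
    rotate_left
    · exact hd.elim
    cases y with
    | star => exact hd.elim
    | of m =>
      refine ⟨op m, Quiver.Hom.op (WithInitial.incl.map ((⟨WithInitial.starInitial.to x, 𝟙 _⟩ :
        (WithInitial.star, WithInitial.of m) ⟶ (x, WithInitial.of m)))), botTerminal.hom_ext _ _, ?_⟩
      intro n' h' _
      let φ : (WithInitial.star, WithInitial.of n'.unop) ⟶ (x, WithInitial.of m) := WithInitial.down h'.unop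
      refine ⟨(WithInitial.down φ.2).op, Quiver.Hom.unop_inj ?_⟩
      change ((𝟙 _, WithInitial.incl.map (WithInitial.down φ.2)) ≫
        ((WithInitial.starInitial.to x, 𝟙 _) : (WithInitial.star, WithInitial.of m) ⟶ (x, WithInitial.of m))) = φ
      exact Prod.ext (hom_star _ _) (Category.comp_id _)

theorem reaches_r (x : D₁) : Reaches (αr (D₂ := D₂) x) QW where
  mem n := trivial
  fac := by
    rintro ⟨⟨m, y⟩ | _⟩ hd g
    rotate_left
    · exact hd.elim
    cases m with
    | star => exact hd.elim
    | of m =>
      cases y with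
      | star => exact hd.elim
      | of n =>
        let γ : (WithInitial.of x, WithInitial.star) ⟶ (WithInitial.of m, WithInitial.of n) := WithInitial.down g.unop
        refine ⟨op n, Quiver.Hom.op (WithInitial.incl.map ((⟨γ.1, 𝟙 _⟩ :
          (WithInitial.of x, WithInitial.of n) ⟶ (WithInitial.of m, WithInitial.of n)))),
          Quiver.Hom.unop_inj (show ((𝟙 _, WithInitial.starInitial.to _) :
              (WithInitial.of x, WithInitial.star) ⟶ (WithInitial.of x, WithInitial.of n)) ≫
              ((γ.1, 𝟙 _) : (WithInitial.of x, WithInitial.of n) ⟶ (WithInitial.of m, WithInitial.of n)) = γ from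
            Prod.ext (Category.id_comp _) (hom_star _ _)), ?_⟩
        intro n' h' h'g
        let φ : (WithInitial.of x, WithInitial.of n'.unop) ⟶ (WithInitial.of m, WithInitial.of n) :=
          WithInitial.down h'.unop
        have hγ : φ.1 = γ.1 := by
          have e := congrArg (fun t => (WithInitial.down t.unop :
            (WithInitial.of x, WithInitial.star) ⟶ (WithInitial.of m, WithInitial.of n)).1) h'g
          exact (Category.id_comp _).symm.trans e
        refine ⟨(WithInitial.down φ.2).op, Quiver.Hom.unop_inj ?_⟩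
        change ((𝟙 _, WithInitial.incl.map (WithInitial.down φ.2)) ≫
          ((γ.1, 𝟙 _) : (WithInitial.of x, WithInitial.of n) ⟶ (WithInitial.of m, WithInitial.of n))) = φ
        exact Prod.ext ((Category.id_comp _).trans hγ.symm) (Category.comp_id _)

theorem reaches_c (y : D₂) : Reaches (αc (D₁ := D₁) y) QW where
  mem n := trivial
  fac := by
    rintro ⟨⟨m, z⟩ | _⟩ hd g
    rotate_left
    · exact hd.elim
    cases m with
    | star => exact hd.elim
    | of m =>
      cases z with
      | star => exact hd.elim
      | of n =>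
        let γ : (WithInitial.star, WithInitial.of y) ⟶ (WithInitial.of m, WithInitial.of n) := WithInitial.down g.unop
        refine ⟨op m, Quiver.Hom.op (WithInitial.incl.map ((⟨𝟙 _, γ.2⟩ :
          (WithInitial.of m, WithInitial.of y) ⟶ (WithInitial.of m, WithInitial.of n)))),
          Quiver.Hom.unop_inj (show ((WithInitial.starInitial.to _, 𝟙 _) :
              (WithInitial.star, WithInitial.of y) ⟶ (WithInitial.of m, WithInitial.of y)) ≫
              ((𝟙 _, γ.2) : (WithInitial.of m, WithInitial.of y) ⟶ (WithInitial.of m, WithInitial.of n)) = γ from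
            Prod.ext (hom_star _ _) (Category.id_comp _)), ?_⟩
        intro n' h' h'g
        let φ : (WithInitial.of n'.unop, WithInitial.of y) ⟶ (WithInitial.of m, WithInitial.of n) :=
          WithInitial.down h'.unop
        have hγ : φ.2 = γ.2 := by
          have e := congrArg (fun t => (WithInitial.down t.unop :
            (WithInitial.star, WithInitial.of y) ⟶ (WithInitial.of m, WithInitial.of n)).2) h'g
          exact (Category.id_comp _).symm.trans e
        refine ⟨(WithInitial.down φ.1).op, Quiver.Hom.unop_inj ?_⟩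
        change ((WithInitial.incl.map (WithInitial.down φ.1), 𝟙 _) ≫
          ((𝟙 _, γ.2) : (WithInitial.of m, WithInitial.of y) ⟶ (WithInitial.of m, WithInitial.of n))) = φ
        exact Prod.ext (Category.comp_id _) ((Category.id_comp _).trans hγ.symm)

theorem good_u : Good (αu (D₁ := D₁) (D₂ := D₂)) where
  span := by
    rintro ⟨⟨x, y⟩ | _⟩ i j k f g a b e
    rotate_left
    · exact (a.unop : PEmpty).elim
    cases x with
    | star => exact (((WithInitial.down a.unop : (WithInitial.of j.unop, WithInitial.star) ⟶ (WithInitial.star, y))).1 : PEmpty).elim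
    | of m =>
      let A : (WithInitial.of j.unop, WithInitial.star) ⟶ (WithInitial.of m, y) := WithInitial.down a.unop
      let B : (WithInitial.of k.unop, WithInitial.star) ⟶ (WithInitial.of m, y) := WithInitial.down b.unop
      refine ⟨op m, (WithInitial.down A.1).op, (WithInitial.down B.1).op, Quiver.Hom.op (WithInitial.incl.map
        ((⟨𝟙 _, WithInitial.starInitial.to y⟩ : (WithInitial.of m, WithInitial.star) ⟶ (WithInitial.of m, y)))),
        Quiver.Hom.unop_inj ?_, Quiver.Hom.unop_inj ?_⟩
      · change ((WithInitial.incl.map (WithInitial.down A.1), 𝟙 _) ≫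
          ((𝟙 _, WithInitial.starInitial.to y) : (WithInitial.of m, WithInitial.star) ⟶ (WithInitial.of m, y))) = A
        exact Prod.ext (Category.comp_id _) (hom_star _ _)
      · change ((WithInitial.incl.map (WithInitial.down B.1), 𝟙 _) ≫
          ((𝟙 _, WithInitial.starInitial.to y) : (WithInitial.of m, WithInitial.star) ⟶ (WithInitial.of m, y))) = B
        exact Prod.ext (Category.comp_id _) (hom_star _ _)
  eq := by
    rintro ⟨⟨x, y⟩ | _⟩ i j f g a e
    rotate_left
    · exact (a.unop : PEmpty).elim
    cases x with
    | star => exact (((WithInitial.down a.unop : (WithInitial.of j.unop, WithInitial.star) ⟶ (WithInitial.star, y))).1 : PEmpty).elim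
    | of m =>
      let A : (WithInitial.of j.unop, WithInitial.star) ⟶ (WithInitial.of m, y) := WithInitial.down a.unop
      refine ⟨op m, (WithInitial.down A.1).op, Quiver.Hom.op (WithInitial.incl.map
        ((⟨𝟙 _, WithInitial.starInitial.to y⟩ : (WithInitial.of m, WithInitial.star) ⟶ (WithInitial.of m, y)))),
        Quiver.Hom.unop_inj ?_, Quiver.Hom.unop_inj ?_⟩
      · exact congrArg (fun t => WithInitial.down ((WithInitial.down t.unop :
          (WithInitial.of i.unop, WithInitial.star) ⟶ (WithInitial.of m, y))).1) e
      · change ((WithInitial.incl.map (WithInitial.down A.1), 𝟙 _) ≫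
          ((𝟙 _, WithInitial.starInitial.to y) : (WithInitial.of m, WithInitial.star) ⟶ (WithInitial.of m, y))) = A
        exact Prod.ext (Category.comp_id _) (hom_star _ _)

theorem good_r (x : D₁) : Good (αr (D₂ := D₂) x) where
  span := by
    rintro ⟨⟨m, y⟩ | _⟩ i j k f g a b e
    rotate_left
    · exact (a.unop : PEmpty).elim
    cases y with
    | star => exact (((WithInitial.down a.unop : (WithInitial.of x, WithInitial.of j.unop) ⟶ (m, WithInitial.star))).2 : PEmpty).elim
    | of n =>
      let A : (WithInitial.of x, WithInitial.of j.unop) ⟶ (m, WithInitial.of n) := WithInitial.down a.unop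
      let B : (WithInitial.of x, WithInitial.of k.unop) ⟶ (m, WithInitial.of n) := WithInitial.down b.unop
      have hAB : A.1 = B.1 := by
        have e' := congrArg (fun t => (WithInitial.down t.unop :
          (WithInitial.of x, WithInitial.of i.unop) ⟶ (m, WithInitial.of n)).1) e
        exact (Category.id_comp _).symm.trans (e'.trans (Category.id_comp _))
      refine ⟨op n, (WithInitial.down A.2).op, (WithInitial.down B.2).op, Quiver.Hom.op (WithInitial.incl.map
        ((⟨A.1, 𝟙 _⟩ : (WithInitial.of x, WithInitial.of n) ⟶ (m, WithInitial.of n)))),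
        Quiver.Hom.unop_inj ?_, Quiver.Hom.unop_inj ?_⟩
      · change ((𝟙 _, WithInitial.incl.map (WithInitial.down A.2)) ≫
          ((A.1, 𝟙 _) : (WithInitial.of x, WithInitial.of n) ⟶ (m, WithInitial.of n))) = A
        exact Prod.ext (Category.id_comp _) (Category.comp_id _)
      · change ((𝟙 _, WithInitial.incl.map (WithInitial.down B.2)) ≫
          ((A.1, 𝟙 _) : (WithInitial.of x, WithInitial.of n) ⟶ (m, WithInitial.of n))) = B
        exact Prod.ext ((Category.id_comp _).trans hAB) (Category.comp_id _)
  eq := by
    rintro ⟨⟨m, y⟩ | _⟩ i j f g a e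
    rotate_left
    · exact (a.unop : PEmpty).elim
    cases y with
    | star => exact (((WithInitial.down a.unop : (WithInitial.of x, WithInitial.of j.unop) ⟶ (m, WithInitial.star))).2 : PEmpty).elim
    | of n =>
      let A : (WithInitial.of x, WithInitial.of j.unop) ⟶ (m, WithInitial.of n) := WithInitial.down a.unop
      refine ⟨op n, (WithInitial.down A.2).op, Quiver.Hom.op (WithInitial.incl.map
        ((⟨A.1, 𝟙 _⟩ : (WithInitial.of x, WithInitial.of n) ⟶ (m, WithInitial.of n)))),
        Quiver.Hom.unop_inj ?_, Quiver.Hom.unop_inj ?_⟩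
      · exact congrArg (fun t => WithInitial.down ((WithInitial.down t.unop :
          (WithInitial.of x, WithInitial.of i.unop) ⟶ (m, WithInitial.of n))).2) e
      · change ((𝟙 _, WithInitial.incl.map (WithInitial.down A.2)) ≫
          ((A.1, 𝟙 _) : (WithInitial.of x, WithInitial.of n) ⟶ (m, WithInitial.of n))) = A
        exact Prod.ext (Category.id_comp _) (Category.comp_id _)

theorem good_v : Good (αv (D₁ := D₁) (D₂ := D₂)) where
  span := by
    rintro ⟨⟨x, y⟩ | _⟩ i j k f g a b e
    rotate_left
    · exact (a.unop : PEmpty).elim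
    cases y with
    | star => exact (((WithInitial.down a.unop : (WithInitial.star, WithInitial.of j.unop) ⟶ (x, WithInitial.star))).2 : PEmpty).elim
    | of m =>
      let A : (WithInitial.star, WithInitial.of j.unop) ⟶ (x, WithInitial.of m) := WithInitial.down a.unop
      let B : (WithInitial.star, WithInitial.of k.unop) ⟶ (x, WithInitial.of m) := WithInitial.down b.unop
      refine ⟨op m, (WithInitial.down A.2).op, (WithInitial.down B.2).op, Quiver.Hom.op (WithInitial.incl.map
        ((⟨WithInitial.starInitial.to x, 𝟙 _⟩ : (WithInitial.star, WithInitial.of m) ⟶ (x, WithInitial.of m)))),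
        Quiver.Hom.unop_inj ?_, Quiver.Hom.unop_inj ?_⟩
      · change ((𝟙 _, WithInitial.incl.map (WithInitial.down A.2)) ≫
          ((WithInitial.starInitial.to x, 𝟙 _) : (WithInitial.star, WithInitial.of m) ⟶ (x, WithInitial.of m))) = A
        exact Prod.ext (hom_star _ _) (Category.comp_id _)
      · change ((𝟙 _, WithInitial.incl.map (WithInitial.down B.2)) ≫
          ((WithInitial.starInitial.to x, 𝟙 _) : (WithInitial.star, WithInitial.of m) ⟶ (x, WithInitial.of m))) = B
        exact Prod.ext (hom_star _ _) (Category.comp_id _)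
  eq := by
    rintro ⟨⟨x, y⟩ | _⟩ i j f g a e
    rotate_left
    · exact (a.unop : PEmpty).elim
    cases y with
    | star => exact (((WithInitial.down a.unop : (WithInitial.star, WithInitial.of j.unop) ⟶ (x, WithInitial.star))).2 : PEmpty).elim
    | of m =>
      let A : (WithInitial.star, WithInitial.of j.unop) ⟶ (x, WithInitial.of m) := WithInitial.down a.unop
      refine ⟨op m, (WithInitial.down A.2).op, Quiver.Hom.op (WithInitial.incl.map
        ((⟨WithInitial.starInitial.to x, 𝟙 _⟩ : (WithInitial.star, WithInitial.of m) ⟶ (x, WithInitial.of m)))),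
        Quiver.Hom.unop_inj ?_, Quiver.Hom.unop_inj ?_⟩
      · exact congrArg (fun t => WithInitial.down ((WithInitial.down t.unop :
          (WithInitial.star, WithInitial.of i.unop) ⟶ (x, WithInitial.of m))).2) e
      · change ((𝟙 _, WithInitial.incl.map (WithInitial.down A.2)) ≫
          ((WithInitial.starInitial.to x, 𝟙 _) : (WithInitial.star, WithInitial.of m) ⟶ (x, WithInitial.of m))) = A
        exact Prod.ext (hom_star _ _) (Category.comp_id _)

theorem good_c (y : D₂) : Good (αc (D₁ := D₁) y) where
  span := by
    rintro ⟨⟨m, z⟩ | _⟩ i j k f g a b e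
    rotate_left
    · exact (a.unop : PEmpty).elim
    cases m with
    | star => exact (((WithInitial.down a.unop : (WithInitial.of j.unop, WithInitial.of y) ⟶ (WithInitial.star, z))).1 : PEmpty).elim
    | of n =>
      let A : (WithInitial.of j.unop, WithInitial.of y) ⟶ (WithInitial.of n, z) := WithInitial.down a.unop
      let B : (WithInitial.of k.unop, WithInitial.of y) ⟶ (WithInitial.of n, z) := WithInitial.down b.unop
      have hAB : A.2 = B.2 := by
        have e' := congrArg (fun t => (WithInitial.down t.unop :
          (WithInitial.of i.unop, WithInitial.of y) ⟶ (WithInitial.of n, z)).2) e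
        exact (Category.id_comp _).symm.trans (e'.trans (Category.id_comp _))
      refine ⟨op n, (WithInitial.down A.1).op, (WithInitial.down B.1).op, Quiver.Hom.op (WithInitial.incl.map
        ((⟨𝟙 _, A.2⟩ : (WithInitial.of n, WithInitial.of y) ⟶ (WithInitial.of n, z)))),
        Quiver.Hom.unop_inj ?_, Quiver.Hom.unop_inj ?_⟩
      · change ((WithInitial.incl.map (WithInitial.down A.1), 𝟙 _) ≫
          ((𝟙 _, A.2) : (WithInitial.of n, WithInitial.of y) ⟶ (WithInitial.of n, z))) = A
        exact Prod.ext (Category.comp_id _) (Category.id_comp _)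
      · change ((WithInitial.incl.map (WithInitial.down B.1), 𝟙 _) ≫
          ((𝟙 _, A.2) : (WithInitial.of n, WithInitial.of y) ⟶ (WithInitial.of n, z))) = B
        exact Prod.ext (Category.comp_id _) ((Category.id_comp _).trans hAB)
  eq := by
    rintro ⟨⟨m, z⟩ | _⟩ i j f g a e
    rotate_left
    · exact (a.unop : PEmpty).elim
    cases m with
    | star => exact (((WithInitial.down a.unop : (WithInitial.of j.unop, WithInitial.of y) ⟶ (WithInitial.star, z))).1 : PEmpty).elim
    | of n =>
      let A : (WithInitial.of j.unop, WithInitial.of y) ⟶ (WithInitial.of n, z) := WithInitial.down a.unop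
      refine ⟨op n, (WithInitial.down A.1).op, Quiver.Hom.op (WithInitial.incl.map
        ((⟨𝟙 _, A.2⟩ : (WithInitial.of n, WithInitial.of y) ⟶ (WithInitial.of n, z)))),
        Quiver.Hom.unop_inj ?_, Quiver.Hom.unop_inj ?_⟩
      · exact congrArg (fun t => WithInitial.down ((WithInitial.down t.unop :
          (WithInitial.of i.unop, WithInitial.of y) ⟶ (WithInitial.of n, z))).1) e
      · change ((WithInitial.incl.map (WithInitial.down A.1), 𝟙 _) ≫
          ((𝟙 _, A.2) : (WithInitial.of n, WithInitial.of y) ⟶ (WithInitial.of n, z))) = A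
        exact Prod.ext (Category.comp_id _) (Category.id_comp _)

variable (P : (WithInitial (E2 D₁ D₂))ᵒᵖ ⥤ TopCat.{u})

/-- Descent along the first axis from descent along the second one, the rows and the columns. -/
theorem isCohDescentTop_axis (hr : ∀ x : D₁, IsCohDescentTop (Yα P (αr x)))
    (hc : ∀ y : D₂, IsCohDescentTop (Yα P (αc y))) (hv : IsCohDescentTop (Yα P αv)) :
    IsCohDescentTop (Yα P αu) := by
  let FY := topAug (Yα P αu)
  let JY := topAugTop (Yα P αu)
  letI := HasDerivedCategory.standard (BaseSh FY JY AddCommGrpCat.{u})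
  letI := HasDerivedCategory.standard (DSh FY JY AddCommGrpCat.{u})
  refine ⟨eps_continuous _, inferInstance, incl_continuous _, incl_cocontinuous _, fun P => inferInstance,
    preservesFiniteLimits_pull, fun K M' => ?_⟩
  obtain ⟨a, ha⟩ := M'.property
  haveI : DerivedCategory.IsGE M'.obj a := ha
  obtain ⟨L, hL, ⟨eL⟩⟩ := DerivedCategory.exists_iso_Q_obj_of_isGE M'.obj a
  let ext := FibSite.extend (topAug P) (topAugTop P) AddCommGrpCat.{u} (bot (E2 D₁ D₂))
  haveI : PreservesColimitsOfSize.{0, 0} ext := (adj₀ P).leftAdjoint_preservesColimits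
  haveI := preservesBinaryBiproducts_of_preservesBinaryCoproducts ext
  haveI : ext.Additive := Functor.additive_of_preservesBinaryBiproducts ext
  let M := (ext.mapHomologicalComplex (ComplexShape.up ℤ)).obj L
  haveI : CochainComplex.IsStrictlyGE M a := CochainComplex.isStrictlyGE_iff _ _ |>.2 fun i hi =>
    (show IsZero (ext.obj (L.X i)) from ext.map_isZero (L.isZero_of_isStrictlyGE a i hi))
  have hM : ∀ n, Cart P (M.X n) := fun n => cart_ext₀ P (L.X n)
  obtain ⟨J, q, hJ, hq, -, -⟩ :=
    KInjLib.exists_resolution (((res P QW.ι).mapHomologicalComplex (ComplexShape.up ℤ)).obj M)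
  have hW : ∀ w, QW w → ∀ k, IsoAt P w (HomologicalComplex.homologyMap (eta M J q) k) :=
    fun w hw k => isoAt_eta M J q hw k
  have hrow : ∀ x k, IsoAt P ((αr x).op.obj (bot D₂)) (HomologicalComplex.homologyMap (eta M J q) k) :=
    fun x k => isoAt_base M J q (αr x) hM a (hr x) (reaches_r x) le_rfl (good_r x)
      (fun n k => hW ((β (αr x)).obj n) (by trivial) k) k
  have hcol : ∀ y k, IsoAt P ((αc y).op.obj (bot D₁)) (HomologicalComplex.homologyMap (eta M J q) k) :=
    fun y k => isoAt_base M J q (αc y) hM a (hc y) (reaches_c y) le_rfl (good_c y)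
      (fun n k => hW ((β (αc y)).obj n) (by trivial) k) k
  have hbot : ∀ k, IsoAt P (bot (E2 D₁ D₂)) (HomologicalComplex.homologyMap (eta M J q) k) :=
    fun k => isoAt_base M J q αv hM a hv reaches_v W_le_V good_v (fun n k => hcol n.unop k) k
  haveI := quasiIso_qα M J q αu hM fun n k => hrow n.unop k
  haveI := isKInjective_part J αu good_u
  have hη := quasiIso_adjunct_qα M J q αu reaches_u W_le_U hbot
  let e₀ : ∀ G : Sheaf (topAugTop P (bot (E2 D₁ D₂))) AddCommGrpCat.{u}, G ≅ (rc P αu).obj (ext.obj G) :=
    fun G => asIso ((adj₀ P).unit.app G) ≪≫ (resRs P αu (ext.obj G) (bot D₁)).symm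
  let e : L ≅ ((rc P αu).mapHomologicalComplex (ComplexShape.up ℤ)).obj M :=
    HomologicalComplex.Hom.isoOfComponents (fun n => e₀ (L.X n)) fun i j _ => by
      apply Sheaf.hom_ext
      ext U : 2
      have h := congrArg (fun t => t.hom.app U) ((adj₀ P).unit.naturality (L.d i j))
      change (((adj₀ P).unit.app (L.X i)).hom.app U ≫ 𝟙 _) ≫ (ext.map (L.d i j)).hom.app _ =
        (L.d i j).hom.app U ≫ ((adj₀ P).unit.app (L.X j)).hom.app U ≫ 𝟙 _
      erw [Category.comp_id, Category.comp_id]
      exact h.symm
  have h := FibLocal8.bijective_map_of_quasiIso (FibDesc.adj FY JY AddCommGrpCat.{u}) (qα M J q αu) hη K.obj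
  let eL' : M'.obj ≅ DerivedCategory.Q.obj (((rc P αu).mapHomologicalComplex (ComplexShape.up ℤ)).obj M) :=
    eL ≪≫ DerivedCategory.Q.mapIso e
  refine (congrArg Function.Bijective (funext fun g => ?_)).mp
    ((((pull FY JY AddCommGrpCat.{u}).mapDerivedCategory.mapIso eL'.symm).homToEquiv).bijective.comp (h.comp eL'.homToEquiv.bijective))
  simp only [Function.comp_apply, Iso.homToEquiv_apply, Functor.mapIso_hom, Iso.symm_hom]
  rw [← Functor.map_comp]
  congr 1
  rw [Category.assoc, Iso.hom_inv_id, Category.comp_id]

end Groth.Agent.FibDouble8
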