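import Groth.Agent.Lib.FibSplit8.Maps
import Groth.Agent.Lib.SiteCoh.LanMono
import Mathlib.CategoryTheory.Functor.KanExtension.Adjunction
import Mathlib.CategoryTheory.Adjunction.Additive

/-!
# Sub-families of an augmented family of spaces
-/

set_option autoImplicit false
set_option backward.isDefEq.respectTransparency false
set_option backward.isDefEq.respectTransparency.types false

universe u

open CategoryTheory CategoryTheory.Limits Opposite TopologicalSpace Pseudofunctor.CoGrothendieck FibDesc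
open Groth.Agent.FibSplit8

noncomputable section

namespace Groth.Agent.FibDouble8

variable {E : Type} [Category.{0} E] (Y : (WithInitial E)ᵒᵖ ⥤ TopCat.{u})
variable {B : Type} [Category.{0} B] (ψ : B ⥤ (WithInitial E)ᵒᵖ)

/-- The sub-family indexed by `B`. -/
abbrev BF : Pseudofunctor (LocallyDiscrete Bᵒᵖ) Cat.{u, u} := FibSite.baseChange (topAug Y) ψ

/-- Its topologies. -/
abbrev BJ : FibSite.Topologies (BF Y ψ) := FibSite.baseChangeTop (topAugTop Y) ψ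

/-- Its total topology. -/
abbrev BT : GrothendieckTopology (∫ᶜ (BF Y ψ)) := FibSite.totalTopology (BF Y ψ) (BJ Y ψ)

/-- Sheaves on it. -/
abbrev BSh := Sheaf (BT Y ψ) AddCommGrpCat.{u}

/-- The functor to the family. -/
abbrev K : ∫ᶜ (BF Y ψ) ⥤ ∫ᶜ (topAug Y) := FibSite.baseChangeFunctor (topAug Y) ψ

theorem isPre : FibSite.IsPreFibSite (BF Y ψ) (BJ Y ψ) := fun _ _ f => isPreFibSite Y (ψ.map f)

instance K_continuous : (K Y ψ).IsContinuous (BT Y ψ) (totAug (topAug Y) (topAugTop Y)) := by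
  refine (FC16.FibTotal.isContinuous_iff (isPre Y ψ) _ _).2 fun i => ?_
  haveI : (ι (topAug Y) (ψ.obj i)).IsContinuous (BJ Y ψ i) (totAug (topAug Y) (topAugTop Y)) :=
    FC16.FibTotal.ι_isContinuous (isPreFibSite Y) _
  exact Functor.isContinuous_of_iso (F₁ := ι (topAug Y) (ψ.obj i)) (F₂ := ι (BF Y ψ) i ⋙ K Y ψ)
    (NatIso.ofComponents (fun U => Iso.refl _) fun f => hom_ext Y (by
      change 𝟙 _ ≫ 𝟙 _ = 𝟙 _ ≫ ψ.map (𝟙 i)
      rw [ψ.map_id])) _ _

instance K_cocontinuous : (K Y ψ).IsCocontinuous (BT Y ψ) (totAug (topAug Y) (topAugTop Y)) where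
  cover_lift {X S} hS := by
    have h := (FC16.FibTotal.mem_total (isPreFibSite Y) S).1 hS
    rw [FC16.FibTotal.mem_total (isPre Y ψ)]
    refine GrothendieckTopology.superset_covering _ ?_ h
    intro V g hg
    change S.arrows ((K Y ψ).map ((ι (BF Y ψ) X.base).map g))
    have : (K Y ψ).map ((ι (BF Y ψ) X.base).map g) = (ι (topAug Y) (ψ.obj X.base)).map g :=
      hom_ext Y (ψ.map_id X.base)
    rw [this]
    exact hg

theorem hom_extB {a b : ∫ᶜ (BF Y ψ)} {φ χ : a ⟶ b} (h : φ.base = χ.base) : φ = χ :=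
  Pseudofunctor.CoGrothendieck.Hom.ext φ χ h
    (@Subsingleton.elim (@Quiver.Hom (Opens (Y.obj (ψ.obj a.base))) _ _ _) _ _ _)

/-- An object of the sub-family. -/
abbrev mkB (i : B) (U : Opens (Y.obj (ψ.obj i))) : ∫ᶜ (BF Y ψ) := (ι (BF Y ψ) i).obj U

/-- The underlying open subset. -/
abbrev opnB (a : ∫ᶜ (BF Y ψ)) : Opens (Y.obj (ψ.obj a.base)) := a.fiber

/-- A morphism of the sub-family. -/
def homMkB {a b : ∫ᶜ (BF Y ψ)} (f : a.base ⟶ b.base)
    (h : opnB Y ψ a ≤ (Opens.map (Y.map (ψ.map f))).obj (opnB Y ψ b)) : a ⟶ b :=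
  ⟨f, homOfLE (X := Opens (Y.obj (ψ.obj a.base))) h⟩

theorem hom_leB {a b : ∫ᶜ (BF Y ψ)} (φ : a ⟶ b) :
    opnB Y ψ a ≤ (Opens.map (Y.map (ψ.map φ.base))).obj (opnB Y ψ b) :=
  leOfHom (X := Opens (Y.obj (ψ.obj a.base))) φ.fiber

/-- Restriction to the sub-family. -/
abbrev res : TSh Y ⥤ BSh Y ψ :=
  (K Y ψ).sheafPushforwardContinuous AddCommGrpCat.{u} (BT Y ψ) (totAug (topAug Y) (topAugTop Y))

/-- Coextension from the sub-family. -/
abbrev coe : BSh Y ψ ⥤ TSh Y :=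
  (K Y ψ).sheafPushforwardCocontinuous AddCommGrpCat.{u} (BT Y ψ) (totAug (topAug Y) (topAugTop Y))

/-- Their adjunction. -/
abbrev adjB : res Y ψ ⊣ coe Y ψ :=
  (K Y ψ).sheafAdjunctionCocontinuous AddCommGrpCat.{u} (BT Y ψ) (totAug (topAug Y) (topAugTop Y))

instance preservesColimits_res : PreservesFiniteColimits (res Y ψ) :=
  haveI := (adjB Y ψ).leftAdjoint_preservesColimits.{0, 0}
  inferInstance

instance preservesLimits_res : PreservesFiniteLimits (res Y ψ) :=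
  haveI := ((K Y ψ).sheafAdjunctionContinuous AddCommGrpCat.{u} (BT Y ψ)
    (totAug (topAug Y) (topAugTop Y))).rightAdjoint_preservesLimits.{0, 0}
  inferInstance

instance additive_res : (res Y ψ).Additive where

instance additive_coe : (coe Y ψ).Additive := (adjB Y ψ).right_adjoint_additive

instance isIso_counit_adjB [(K Y ψ).Full] [(K Y ψ).Faithful] (M : BSh Y ψ) : IsIso ((adjB Y ψ).counit.app M) := by
  refine @isIso_of_reflects_iso _ _ _ _ _ _ _ (sheafToPresheaf _ _) ?_ _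
  change IsIso ((adjB Y ψ).counit.app M).hom
  rw [Functor.sheafAdjunctionCocontinuous_counit_app_hom]
  infer_instance

theorem K_full [ψ.Full] : (K Y ψ).Full := ⟨fun {a b} g => by
  obtain ⟨f, hf⟩ := ψ.map_surjective g.base
  refine ⟨homMkB Y ψ f ?_, hom_ext Y hf⟩
  rw [hf]
  exact hom_le Y g⟩

theorem K_faithful [ψ.Faithful] : (K Y ψ).Faithful :=
  ⟨fun {_ _} _ _ h => hom_extB Y ψ (ψ.map_injective (congrArg Pseudofunctor.CoGrothendieck.Hom.base h))⟩

variable {B' : Type} [Category.{0} B'] (χ : B' ⥤ B)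

/-- The functor between two sub-families. -/
def Kχ : ∫ᶜ (BF Y (χ ⋙ ψ)) ⥤ ∫ᶜ (BF Y ψ) where
  obj X := mkB Y ψ (χ.obj X.base) (opnB Y (χ ⋙ ψ) X)
  map {X Z} g := homMkB Y ψ (a := mkB Y ψ (χ.obj X.base) (opnB Y (χ ⋙ ψ) X))
    (b := mkB Y ψ (χ.obj Z.base) (opnB Y (χ ⋙ ψ) Z)) (χ.map g.base) (hom_leB Y (χ ⋙ ψ) g)
  map_id X := hom_extB Y ψ (χ.map_id _)
  map_comp f g := hom_extB Y ψ (χ.map_comp _ _)

instance Kχ_continuous : (Kχ Y ψ χ).IsContinuous (BT Y (χ ⋙ ψ)) (BT Y ψ) := by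
  refine (FC16.FibTotal.isContinuous_iff (isPre Y (χ ⋙ ψ)) _ _).2 fun i => ?_
  haveI : (ι (BF Y ψ) (χ.obj i)).IsContinuous (BJ Y (χ ⋙ ψ) i) (BT Y ψ) :=
    FC16.FibTotal.ι_isContinuous (isPre Y ψ) _
  exact Functor.isContinuous_of_iso (F₁ := ι (BF Y ψ) (χ.obj i)) (F₂ := ι (BF Y (χ ⋙ ψ)) i ⋙ Kχ Y ψ χ)
    (NatIso.ofComponents (fun U => Iso.refl _) fun f => hom_extB Y ψ (by
      change 𝟙 _ ≫ 𝟙 _ = 𝟙 _ ≫ χ.map (𝟙 i)
      rw [χ.map_id])) _ _

instance Kχ_cocontinuous : (Kχ Y ψ χ).IsCocontinuous (BT Y (χ ⋙ ψ)) (BT Y ψ) where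
  cover_lift {X S} hS := by
    have h := (FC16.FibTotal.mem_total (isPre Y ψ) S).1 hS
    rw [FC16.FibTotal.mem_total (isPre Y (χ ⋙ ψ))]
    refine GrothendieckTopology.superset_covering _ ?_ h
    intro V g hg
    change S.arrows ((Kχ Y ψ χ).map ((ι (BF Y (χ ⋙ ψ)) X.base).map g))
    have : (Kχ Y ψ χ).map ((ι (BF Y (χ ⋙ ψ)) X.base).map g) = (ι (BF Y ψ) (χ.obj X.base)).map g :=
      hom_extB Y ψ (χ.map_id X.base)
    rw [this]
    exact hg

/-- The two ways into the family agree. -/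
def KχIso : Kχ Y ψ χ ⋙ K Y ψ ≅ K Y (χ ⋙ ψ) :=
  NatIso.ofComponents (fun X => Iso.refl _) fun g => hom_ext Y
    ((Category.comp_id _).trans (Category.id_comp _).symm)

/-- Coextension in two steps. -/
def coeIso : coe Y (χ ⋙ ψ) ≅
    (Kχ Y ψ χ).sheafPushforwardCocontinuous AddCommGrpCat.{u} (BT Y (χ ⋙ ψ)) (BT Y ψ) ⋙ coe Y ψ :=
  (((adjB Y (χ ⋙ ψ)).ofNatIsoLeft (Functor.sheafPushforwardContinuousComp' (KχIso Y ψ χ) AddCommGrpCat.{u}
    (BT Y (χ ⋙ ψ)) (BT Y ψ) (totAug (topAug Y) (topAugTop Y))).symm).rightAdjointUniq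
    ((adjB Y ψ).comp ((Kχ Y ψ χ).sheafAdjunctionCocontinuous AddCommGrpCat.{u} (BT Y (χ ⋙ ψ)) (BT Y ψ))))

/-- A coextension from a smaller sub-family is a coextension from a larger one. -/
theorem isIso_unit_coe [ψ.Full] [ψ.Faithful] (J : BSh Y (χ ⋙ ψ)) :
    IsIso ((adjB Y ψ).unit.app ((coe Y (χ ⋙ ψ)).obj J)) := by
  haveI := K_full Y ψ
  haveI := K_faithful Y ψ
  refine (NatTrans.isIso_app_iff_of_iso (adjB Y ψ).unit ((coeIso Y ψ χ).app J)).2 ?_
  let X := ((Kχ Y ψ χ).sheafPushforwardCocontinuous AddCommGrpCat.{u} (BT Y (χ ⋙ ψ)) (BT Y ψ)).obj J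
  change IsIso ((adjB Y ψ).unit.app ((coe Y ψ).obj X))
  haveI : IsIso ((coe Y ψ).map ((adjB Y ψ).counit.app X)) := inferInstance
  have h := (adjB Y ψ).right_triangle_components X
  haveI : IsIso ((adjB Y ψ).unit.app ((coe Y ψ).obj X) ≫ (coe Y ψ).map ((adjB Y ψ).counit.app X)) := by
    rw [h]; exact IsIso.id _
  exact IsIso.of_isIso_comp_right _ ((coe Y ψ).map ((adjB Y ψ).counit.app X))

end Groth.Agent.FibDouble8
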