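import Groth.Agent.Lib.FibDouble8.Cech

/-!
# Formal properties of universal cohomological descent
-/

set_option autoImplicit false
set_option backward.isDefEq.respectTransparency false
set_option backward.isDefEq.respectTransparency.types false

universe u

open CategoryTheory CategoryTheory.Limits Opposite FibDesc
open Groth.Agent.FibSplit8

noncomputable section

namespace Groth.Agent.FibDouble8

/-- Isomorphic arrows. -/
theorem isCohDescentMap_of_arrowIso {X' S' X S : TopCat.{u}} {f' : X' ⟶ S'} {f : X ⟶ S}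
    (e : Arrow.mk f' ≅ Arrow.mk f) (h : IsCohDescentMap f') : IsCohDescentMap f := by
  let j : cechAug f' ≅ cechAug f := AugmentedSimplexCategory.equivAugmentedSimplicialObject.inverse.mapIso
    (SimplicialObject.augmentedCechNerve.mapIso e)
  exact isCohDescentTop_of_iso j.hom h

/-- Descent for a base change computed by any pullback square. -/
theorem isCohDescentMap_of_isPullback {P X S T : TopCat.{u}} {p : P ⟶ X} {q : P ⟶ T} {f : X ⟶ S} {g : T ⟶ S}
    (h : IsPullback p q f g) : IsCohDescentMap (pullback.snd f g) → IsCohDescentMap q :=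
  isCohDescentMap_of_arrowIso (Arrow.isoMk h.isoPullback.symm (Iso.refl _) (by simp))

/-- Universal descent is stable under base change. -/
theorem isUniv_of_isPullback {P X S T : TopCat.{u}} {p : P ⟶ X} {q : P ⟶ T} {f : X ⟶ S} {g : T ⟶ S}
    (h : IsPullback p q f g) (hf : IsUnivCohDescentMap f) : IsUnivCohDescentMap q := fun T' k =>
  isCohDescentMap_of_isPullback ((IsPullback.of_hasPullback q k).paste_horiz h) (hf T' (k ≫ g))

theorem isUniv_baseChange {X S T : TopCat.{u}} (f : X ⟶ S) (g : T ⟶ S) (hf : IsUnivCohDescentMap f) :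
    IsUnivCohDescentMap (pullback.snd f g) :=
  isUniv_of_isPullback (IsPullback.of_hasPullback f g) hf

/-- Universal descent is local for universal descent. -/
theorem isUniv_of_baseChange {X Y S : TopCat.{u}} (u : X ⟶ S) (v : Y ⟶ S) (hv : IsUnivCohDescentMap v)
    (h : IsUnivCohDescentMap (pullback.snd u v)) : IsUnivCohDescentMap u := by
  intro S' g
  let v' := pullback.snd v g
  refine isCohDescentMap_of_baseChange_cech _ v' (isUniv_baseChange v g hv) fun n => ?_
  let b := eA v' (op (WithInitial.of n))
  let c : (cechAug v').obj (op (WithInitial.of n)) ⟶ Y := wπ v' n 0 ≫ pullback.fst v g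
  have hc : b ≫ g = c ≫ v := by
    have e : wπ v' n 0 ≫ v' = b := WidePullback.π_arrow _ _
    rw [← e]
    simp only [c, v', Category.assoc, pullback.condition]
  let Q := pullback (pullback.snd u g) b
  let l : Q ⟶ pullback u v := pullback.lift (pullback.fst _ _ ≫ pullback.fst u g) (pullback.snd _ _ ≫ c) (by
    rw [Category.assoc, pullback.condition, Category.assoc, ← hc, ← Category.assoc, pullback.condition,
      Category.assoc])
  have big : IsPullback (l ≫ pullback.fst u v) (pullback.snd (pullback.snd u g) b) u (c ≫ v) := by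
    rw [pullback.lift_fst, ← hc]
    exact (IsPullback.of_hasPullback (pullback.snd u g) b).paste_horiz (IsPullback.of_hasPullback u g) |>.of_iso
      (Iso.refl _) (Iso.refl _) (Iso.refl _) (Iso.refl _) (by simp) (by simp) (by simp) (by simp)
  exact isCohDescentMap_of_isPullback
    (IsPullback.of_right big (pullback.lift_snd _ _ _) (IsPullback.of_hasPullback u v)) (h _ c)

/-- Cancellation. -/
theorem isUniv_of_comp {X Y S : TopCat.{u}} (f : X ⟶ Y) (g : Y ⟶ S) (h : IsUnivCohDescentMap (f ≫ g)) :
    IsUnivCohDescentMap g :=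
  isUniv_of_baseChange g (f ≫ g) h fun S' k => FibSplit8.isCohDescentMap_of_section _
    (pullback.lift (k ≫ pullback.lift f (𝟙 X) (by rw [Category.id_comp])) (𝟙 S')
      (by rw [Category.assoc, pullback.lift_snd, Category.id_comp, Category.comp_id]))
    (pullback.lift_snd _ _ _)

/-- Composites. -/
theorem isUniv_comp {X Y S : TopCat.{u}} (f : X ⟶ Y) (g : Y ⟶ S) (hf : IsUnivCohDescentMap f)
    (hg : IsUnivCohDescentMap g) : IsUnivCohDescentMap (f ≫ g) :=
  isUniv_of_baseChange (f ≫ g) g hg (isUniv_of_comp (pullback.lift (𝟙 X) f (by rw [Category.id_comp])) _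
    (by rw [pullback.lift_snd]; exact hf))

/-- Fibre products. -/
theorem isUniv_map {X X' Y Y' S : TopCat.{u}} (pX : X' ⟶ S) (pY : Y' ⟶ S) (f : X ⟶ X') (g : Y ⟶ Y')
    (hf : IsUnivCohDescentMap f) (hg : IsUnivCohDescentMap g) :
    IsUnivCohDescentMap
      (pullback.map (f ≫ pX) (g ≫ pY) pX pY f g (𝟙 S) (Category.comp_id _) (Category.comp_id _)) := by
  let A := pullback.map (f ≫ pX) (g ≫ pY) pX (g ≫ pY) f (𝟙 Y) (𝟙 S) (Category.comp_id _) (by simp)
  let B := pullback.map pX (g ≫ pY) pX pY (𝟙 X') g (𝟙 S) (by simp) (Category.comp_id _)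
  have e : pullback.map (f ≫ pX) (g ≫ pY) pX pY f g (𝟙 S) (Category.comp_id _) (Category.comp_id _) = A ≫ B := by
    apply pullback.hom_ext <;> simp [A, B]
  rw [e]
  refine isUniv_comp A B (isUniv_of_isPullback (p := pullback.fst (f ≫ pX) (g ≫ pY)) (g := pullback.fst pX (g ≫ pY))
      ?_ hf)
    (isUniv_of_isPullback (p := pullback.snd pX (g ≫ pY)) (g := pullback.snd pX pY) ?_ hg)
  · refine IsPullback.of_bot ?_ (pullback.lift_fst _ _ _).symm (IsPullback.of_hasPullback pX (g ≫ pY))
    simp [A]
    exact (IsPullback.of_hasPullback (f ≫ pX) (g ≫ pY))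
  · refine IsPullback.of_bot ?_ (pullback.lift_snd _ _ _).symm (IsPullback.of_hasPullback pX pY).flip
    simp [B]
    exact (IsPullback.of_hasPullback pX (g ≫ pY)).flip

end Groth.Agent.FibDouble8
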